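import Cfsg.Agent.CISylow69.Local
import Cfsg.Agent.CISylow69.TIQuot
import Cfsg.Agent.BC85.Balance.Main
import Cfsg.Agent.ClassTech.LocalBalance
import Cfsg.Agent.PF14.Compose
import Cfsg.Agent.S3215

/-!
Groups with solvable centralisers of involutions and a normal elementary abelian subgroup of order
at least eight in a Sylow 2-subgroup: strong embedding of the normaliser of a central subgroup.
-/

set_option autoImplicit false
set_option linter.style.haveILetI false
set_option linter.unusedSectionVars false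

namespace Cfsg.Agent.U3Sylow69

open Subgroup BenderCons37 CISylow69

universe u

variable {G : Type u} [Group G] [Finite G]

theorem isPGroup_zpowers_of_sq {x : G} (hx : x * x = 1) : IsPGroup 2 ↥(Subgroup.zpowers x) := by
  rintro ⟨y, hy⟩
  obtain ⟨k, rfl⟩ := Subgroup.mem_zpowers_iff.1 hy
  refine ⟨1, Subtype.ext ?_⟩
  show (x ^ k) ^ 2 ^ 1 = 1
  rw [pow_one, ← zpow_natCast, ← zpow_mul, mul_comm, zpow_mul, zpow_natCast, pow_two, hx, one_zpow]

/-- An involution is conjugate into a given Sylow 2-subgroup. -/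
theorem exists_conj_mem (S : Sylow 2 G) {P : Subgroup G} (hP : IsPGroup 2 P) :
    ∃ g : G, ∀ x ∈ P, g * x * g⁻¹ ∈ (S : Subgroup G) := by
  haveI : Fact (Nat.Prime 2) := ⟨Nat.prime_two⟩
  obtain ⟨R, hR⟩ := hP.exists_le_sylow
  obtain ⟨g, hg⟩ := MulAction.exists_smul_eq G R S
  refine ⟨g, fun x hx => ?_⟩
  rw [← hg, Sylow.coe_subgroup_smul]
  exact ⟨x, hR hx, rfl⟩

/-- A 2-subgroup of `M ≥ S` is conjugate within `M` into `S`. -/
theorem exists_conj_mem_of_le (S : Sylow 2 G) {M P : Subgroup G} (hSM : (S : Subgroup G) ≤ M)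
    (hP : IsPGroup 2 P) (hPM : P ≤ M) :
    ∃ m ∈ M, ∀ x ∈ P, m * x * m⁻¹ ∈ (S : Subgroup G) := by
  obtain ⟨m, hm⟩ := exists_conj_mem (S.subtype hSM)
    (hP.of_equiv (Subgroup.subgroupOfEquivOfLe hPM).symm)
  exact ⟨m, m.2, fun x hx => hm ⟨x, hPM hx⟩ hx⟩

/-- The normaliser of a central subgroup is strongly embedded if it contains the normaliser of `S`
and the centralisers of the involutions of `S`. -/
theorem stronglyEmbedded_of_centralizers (S : Sylow 2 G) {Z : Subgroup G}
    (hZS : Z ≤ (S : Subgroup G)) (hZc : ∀ z ∈ Z, ∀ s ∈ (S : Subgroup G), s * z = z * s)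
    {z : G} (hz : z ∈ Z) (hz2 : orderOf z = 2) (hne : normalizer (Z : Set G) ≠ ⊤)
    (hN : normalizer ((S : Subgroup G) : Set G) ≤ normalizer (Z : Set G))
    (hC : ∀ t ∈ (S : Subgroup G), orderOf t = 2 →
      centralizer ({t} : Set G) ≤ normalizer (Z : Set G)) :
    Cfsg.IsStronglyEmbedded (normalizer (Z : Set G)) := by
  haveI : Fact (Nat.Prime 2) := ⟨Nat.prime_two⟩
  set M := normalizer (Z : Set G) with hM
  have hSM : (S : Subgroup G) ≤ M := le_normalizer.trans hN
  have hC' : ∀ t ∈ M, orderOf t = 2 → centralizer ({t} : Set G) ≤ M := by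
    intro t ht ho c hc
    obtain ⟨m, hm, hmt⟩ := exists_conj_mem_of_le S hSM (isPGroup_zpowers_of_sq
      (TwoFusionB.sq_eq_one_of_inv ho)) (zpowers_le.2 ht)
    have h1 : m * c * m⁻¹ ∈ M := hC _ (hmt t (mem_zpowers t))
      (by rw [TwoFusionB.orderOf_conj_eq, ho]) (mem_centralizer_singleton_iff.2 (by
        have hc' := mem_centralizer_singleton_iff.1 hc
        calc m * c * m⁻¹ * (m * t * m⁻¹) = m * (c * t) * m⁻¹ := by group
          _ = m * (t * c) * m⁻¹ := by rw [hc']
          _ = m * t * m⁻¹ * (m * c * m⁻¹) := by group))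
    have h2 := M.mul_mem (M.mul_mem (M.inv_mem hm) h1) hm
    simpa [mul_assoc] using h2
  rw [Involution.stronglyEmbedded_iff]
  refine ⟨hne, Involution.even_card_of_involution (hSM (hZS hz)) hz2, fun g t ht ho htg => ?_⟩
  -- `z` centralises every involution of `M`
  obtain ⟨m, hm, hmt⟩ := exists_conj_mem_of_le S hSM (isPGroup_zpowers_of_sq
    (TwoFusionB.sq_eq_one_of_inv ho)) (zpowers_le.2 ht)
  have hzt : z * t = t * z := by
    have hz' : m * z * m⁻¹ ∈ Z := (mem_normalizer_iff.1 hm z).1 hz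
    have h1 := hZc _ hz' _ (hmt t (mem_zpowers t))
    have h2 : m * (t * z) * m⁻¹ = m * (z * t) * m⁻¹ := by
      calc m * (t * z) * m⁻¹ = m * t * m⁻¹ * (m * z * m⁻¹) := by group
        _ = m * z * m⁻¹ * (m * t * m⁻¹) := h1
        _ = m * (z * t) * m⁻¹ := by group
    exact (mul_left_cancel (mul_right_cancel h2)).symm
  have h1 : g * z * g⁻¹ ∈ M := hC' _ htg (by rw [TwoFusionB.orderOf_conj_eq, ho])
    (mem_centralizer_singleton_iff.2 (by
      calc g * z * g⁻¹ * (g * t * g⁻¹) = g * (z * t) * g⁻¹ := by group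
        _ = g * (t * z) * g⁻¹ := by rw [hzt]
        _ = g * t * g⁻¹ * (g * z * g⁻¹) := by group))
  have hgS : (S : Subgroup G).map (MulAut.conj g).toMonoidHom ≤ M := by
    rintro _ ⟨s, hs, rfl⟩
    refine hC' _ h1 (by rw [TwoFusionB.orderOf_conj_eq, hz2]) (mem_centralizer_singleton_iff.2 ?_)
    show g * s * g⁻¹ * (g * z * g⁻¹) = g * z * g⁻¹ * (g * s * g⁻¹)
    calc g * s * g⁻¹ * (g * z * g⁻¹) = g * (s * z) * g⁻¹ := by group
      _ = g * (z * s) * g⁻¹ := by rw [hZc z hz s hs]
      _ = g * z * g⁻¹ * (g * s * g⁻¹) := by group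
  obtain ⟨n, hn, hng⟩ := exists_conj_mem_of_le S hSM (S.isPGroup'.map _) hgS
  have hle : (S : Subgroup G).map (MulAut.conj (n * g)).toMonoidHom ≤ (S : Subgroup G) := by
    rintro _ ⟨s, hs, rfl⟩
    have h2 := hng (g * s * g⁻¹) ⟨s, hs, rfl⟩
    simpa [mul_assoc] using h2
  have hngN : n * g ∈ normalizer ((S : Subgroup G) : Set G) := by
    rw [mem_normalizer_iff_map_conj_eq]
    exact eq_of_le_of_card_ge hle (by
      rw [card_map_of_injective (MulAut.conj (n * g)).injective])
  simpa using M.mul_mem (M.inv_mem hn) (hN hngN)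

/-- The centralisers of involutions have trivial odd core. -/
theorem oddCore_centralizer (hsp : BenderSplit.{u}) (hO : Cfsg.oddCore G = ⊥) (S : Sylow 2 G)
    {Ω : Subgroup G} (hΩ : Cfsg.IsElementaryAbelian 2 Ω) (h8 : 8 ≤ Nat.card Ω)
    (hΩS : Ω ≤ (S : Subgroup G)) (hn : ∀ s ∈ (S : Subgroup G), ∀ x ∈ Ω, s * x * s⁻¹ ∈ Ω)
    (hsol : ∀ t : G, orderOf t = 2 → Group.IsSolvable (centralizer ({t} : Set G)))
    {t : G} (ht : orderOf t = 2) : Cfsg.oddCore (centralizer ({t} : Set G)) = ⊥ := by
  refine BC85.Balance.solvable_centralizers (fun X _ _ H hH => benderCore hsp twoGroupStmt hH)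
    hO S Ω hΩS ?_ hΩ.1 ?_ hsol t ht
  · exact ⟨fun x hx s => hn s s.2 x hx⟩
  · intro h
    haveI := hΩ.1
    have h1 := h ⊤ inferInstance fun x _ => Subtype.ext (hΩ.2 x x.2)
    rw [Subgroup.card_top] at h1
    have : (2 : ℕ) ^ 2 = 4 := by norm_num
    omega

/-- The data at `S` of a strongly embedded subgroup containing `S`. -/
theorem data_at (hsp : BenderSplit.{u}) (hO : Cfsg.oddCore G = ⊥) (S : Sylow 2 G) {M : Subgroup G}
    (hM : Cfsg.IsStronglyEmbedded M) (hSM : (S : Subgroup G) ≤ M) :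
    SylData (S : Subgroup G) ∧
      (IsSimpleGroup ↥(Cfsg.pElementClosure 2 (⊤ : Subgroup G)) ∧
        commutator ↥(Cfsg.pElementClosure 2 (⊤ : Subgroup G)) = ⊤) ∧
      GenType (S : Subgroup G) (Cfsg.pElementClosure 2 (⊤ : Subgroup G)) := by
  obtain ⟨R, hR, hNR, hd⟩ := data_of_stronglyEmbedded hsp hM hO
  haveI : ((R : Subgroup G).subgroupOf M).Normal :=
    (Subgroup.normal_subgroupOf_iff_le_normalizer hR).2 hNR
  have : R = S := by
    obtain ⟨X, hX⟩ := (S.isPGroup'.to_sup_of_normal_right' R.isPGroup'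
      (hSM.trans hNR)).exists_le_sylow
    exact (sylow_eq_of_le (le_sup_right.trans hX) : R = X).trans
      (sylow_eq_of_le (le_sup_left.trans hX) : S = X).symm
  exact this ▸ hd

/-- An abelian Sylow 2-subgroup of a solvable group with trivial odd core is normal. -/
theorem normal_of_abelian {H : Type u} [Group H] [Finite H] (hsol : Group.IsSolvable H)
    (hO : Cfsg.oddCore H = ⊥) (T : Sylow 2 H)
    (hT : ∀ a ∈ (T : Subgroup H), ∀ b ∈ (T : Subgroup H), a * b = b * a) :
    (T : Subgroup H).Normal := by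
  haveI : Fact (Nat.Prime 2) := ⟨Nat.prime_two⟩
  haveI := hsol
  have h1 : Cfsg.pCore 2 H ≤ (T : Subgroup H) := Thompson.pCore_le_sylow T
  have h2 : (T : Subgroup H) = Cfsg.pCore 2 H := le_antisymm (fun a ha =>
    S3215.centralizer_pCore_le hO (mem_centralizer_iff.2 fun b hb => hT b (h1 hb) a ha)) h1
  rw [h2]
  exact Fitting.pCore_normal 2

section quotient

variable {G' : Type u} [Group G'] [Finite G'] (π : G →* G')

theorem comap_centralizer_singleton (x : G) {g : G} :
    g ∈ (centralizer ({π x} : Set G')).comap π ↔ g * x * g⁻¹ * x⁻¹ ∈ π.ker := by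
  rw [mem_comap, mem_centralizer_singleton_iff, MonoidHom.mem_ker]
  simp only [map_mul, map_inv]
  rw [mul_inv_eq_one, mul_inv_eq_iff_eq_mul]

/-- The preimage of a centraliser normalises the centraliser. -/
theorem conj_mem_centralizer (hker : π.ker ≤ center G) (x : G) {g c : G}
    (hg : g ∈ (centralizer ({π x} : Set G')).comap π) (hc : c ∈ centralizer ({x} : Set G)) :
    g * c * g⁻¹ ∈ centralizer ({x} : Set G) := by
  have he : g * x * g⁻¹ * x⁻¹ ∈ center G := hker ((comap_centralizer_singleton π x).1 hg)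
  set e := g * x * g⁻¹ * x⁻¹ with hedef
  have hxe : g * x * g⁻¹ = e * x := by rw [hedef, inv_mul_cancel_right]
  rw [mem_centralizer_singleton_iff]
  have hgx : g⁻¹ * x * g = x * e⁻¹ := by
    have h1 : x = g⁻¹ * (e * x) * g := by rw [← hxe]; group
    have h2 : g⁻¹ * (e * x) * g = e * (g⁻¹ * x * g) := by
      rw [show g⁻¹ * (e * x) * g = g⁻¹ * e * (x * g) by group, mem_center_iff.1 he g⁻¹]
      group
    rw [h2] at h1
    rw [← mul_right_inj e, ← h1, ← mul_assoc, ← mem_center_iff.1 he x, mul_assoc, mul_inv_cancel,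
      mul_one]
  have hc' := mem_centralizer_singleton_iff.1 hc
  have hex : c * (x * e⁻¹) = x * e⁻¹ * c := by
    rw [← mul_assoc, hc', mul_assoc, mem_center_iff.1 (inv_mem he) c, mul_assoc]
  calc g * c * g⁻¹ * x = g * (c * (g⁻¹ * x * g)) * g⁻¹ := by group
    _ = g * (g⁻¹ * x * g * c) * g⁻¹ := by rw [hgx, hex]
    _ = x * (g * c * g⁻¹) := by group

/-- Centralisers in a central quotient are solvable if the centralisers upstairs are. -/
theorem isSolvable_centralizer_map (hπ : Function.Surjective π) (hker : π.ker ≤ center G) (x : G)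
    (h : Group.IsSolvable (centralizer ({x} : Set G))) :
    Group.IsSolvable (centralizer ({π x} : Set G')) := by
  set C := (centralizer ({π x} : Set G')).comap π with hC
  haveI := h
  let δ : C →* center G :=
    { toFun := fun g => ⟨g * x * (g : G)⁻¹ * x⁻¹,
        hker ((comap_centralizer_singleton π x).1 g.2)⟩
      map_one' := Subtype.ext (by simp)
      map_mul' := fun g g' => Subtype.ext (by
        have he := mem_center_iff.1 (hker ((comap_centralizer_singleton π x).1 g'.2)) (g : G)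
        show (g : G) * g' * x * ((g : G) * g')⁻¹ * x⁻¹ =
          (g * x * (g : G)⁻¹ * x⁻¹) * ((g' : G) * x * (g' : G)⁻¹ * x⁻¹)
        calc (g : G) * g' * x * ((g : G) * g')⁻¹ * x⁻¹
            = (g : G) * ((g' : G) * x * (g' : G)⁻¹ * x⁻¹) * x * (g : G)⁻¹ * x⁻¹ := by group
          _ = ((g' : G) * x * (g' : G)⁻¹ * x⁻¹) * (g * x * (g : G)⁻¹ * x⁻¹) := by
              rw [he]; group
          _ = _ := (mem_center_iff.1 (hker ((comap_centralizer_singleton π x).1 g'.2)) _).symm) }
  haveI : Group.IsSolvable (center G) :=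
    Group.isSolvable_of_comm fun a b => Subtype.ext (mem_center_iff.1 b.2 a)
  haveI : Group.IsSolvable C := by
    refine Group.isSolvable_of_ker_le_range
      (Subgroup.inclusion (show centralizer ({x} : Set G) ≤ C from fun c hc => ?_)) δ ?_
    · rw [hC, comap_centralizer_singleton, mem_centralizer_singleton_iff.1 hc,
        mul_inv_cancel_right, mul_inv_cancel]
      exact one_mem _
    · intro g hg
      have h1 : (g : G) * x * (g : G)⁻¹ * x⁻¹ = 1 := congrArg Subtype.val hg
      rw [mul_inv_eq_one, mul_inv_eq_iff_eq_mul] at h1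
      exact ⟨⟨g, mem_centralizer_singleton_iff.2 h1⟩, Subtype.ext rfl⟩
  refine Group.isSolvable_of_surjective (f := (π.comp C.subtype).codRestrict
    (centralizer ({π x} : Set G')) fun g => g.2) ?_
  rintro ⟨y, hy⟩
  obtain ⟨g, rfl⟩ := hπ y
  exact ⟨⟨g, hy⟩, rfl⟩

/-- Trivial odd core of a centraliser goes up through a central 2-quotient. -/
theorem oddCore_centralizer_of_map (hπ : Function.Surjective π) (hker : π.ker ≤ center G)
    (h2 : IsPGroup 2 π.ker) (x : G) (h : Cfsg.oddCore (centralizer ({π x} : Set G')) = ⊥) :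
    Cfsg.oddCore (centralizer ({x} : Set G)) = ⊥ := by
  set C := centralizer ({x} : Set G)
  set C' := centralizer ({π x} : Set G')
  have hCC : ∀ c ∈ C, π c ∈ C' := fun c hc => mem_centralizer_singleton_iff.2 (by
    rw [← map_mul, ← map_mul, mem_centralizer_singleton_iff.1 hc])
  let φ : C →* C' := (π.comp C.subtype).codRestrict C' fun c => hCC c c.2
  set O := Cfsg.oddCore C with hOdef
  haveI hOn : O.Normal := by rw [hOdef]; exact Thompson.sSup_normal fun N hN => hN.1
  haveI : O.Characteristic := by rw [hOdef]; infer_instance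
  have hodd : Odd (Nat.card O) := by rw [hOdef]; exact oddCore_card_odd
  have hn : (O.map φ).Normal := by
    refine ⟨?_⟩
    rintro _ ⟨o, ho, rfl⟩ ⟨y, hy⟩
    obtain ⟨g, rfl⟩ := hπ y
    let α : C ≃* C :=
      { toFun := fun c => ⟨g * c * g⁻¹, conj_mem_centralizer π hker x hy c.2⟩
        invFun := fun c => ⟨g⁻¹ * c * g, by
          have h' : g⁻¹ ∈ C'.comap π := inv_mem (show g ∈ C'.comap π from hy)
          simpa using conj_mem_centralizer π hker x h' c.2⟩
        left_inv := fun c => Subtype.ext (by simp [mul_assoc])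
        right_inv := fun c => Subtype.ext (by simp [mul_assoc])
        map_mul' := fun a b => Subtype.ext (by simp [mul_assoc]) }
    refine ⟨α o, ?_, Subtype.ext ?_⟩
    swap
    · show π (g * (o : G) * g⁻¹) = π g * π (o : G) * (π g)⁻¹
      rw [map_mul, map_mul, map_inv]
    rw [← Subgroup.characteristic_iff_map_eq.1 (inferInstance : O.Characteristic) α]
    exact ⟨o, ho, rfl⟩
  have hodd' : Odd (Nat.card (O.map φ)) := hodd.of_dvd_nat (Subgroup.card_map_dvd O φ)
  have hbot : O.map φ = ⊥ := by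
    have hle : O.map φ ≤ Cfsg.oddCore C' :=
      Thompson.le_pPrimeCore hn (Nat.coprime_two_right.2 hodd')
    exact le_bot_iff.1 (hle.trans h.le)
  rw [eq_bot_iff]
  intro o ho
  have h1 : π (o : G) = 1 := congrArg Subtype.val
    (show φ o = 1 from (Subgroup.mem_bot).1 (hbot ▸ mem_map_of_mem φ ho))
  obtain ⟨k, hk⟩ := h2 ⟨o, h1⟩
  have hd1 : orderOf (o : G) ∣ 2 ^ k := orderOf_dvd_of_pow_eq_one (congrArg Subtype.val hk)
  have hd2 : orderOf (o : G) ∣ Nat.card O := by
    rw [Subgroup.orderOf_coe]; exact O.orderOf_dvd_natCard ho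
  rw [Subgroup.mem_bot]
  exact Subtype.ext (orderOf_eq_one_iff.1 (Nat.eq_one_of_dvd_coprimes
    ((Nat.coprime_two_left.2 hodd).pow_left k) hd1 hd2))

/-- Centralisers modulo an odd normal subgroup are solvable if the centralisers upstairs are. -/
theorem isSolvable_centralizer_odd (hπ : Function.Surjective π) (hodd : Odd (Nat.card π.ker))
    {x : G} (hx : x * x = 1) (h : Group.IsSolvable (centralizer ({x} : Set G))) :
    Group.IsSolvable (centralizer ({π x} : Set G')) := by
  haveI : Fact (Nat.Prime 2) := ⟨Nat.prime_two⟩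
  haveI := h
  rw [← ClassTech.map_centralizer_of_coprime_ker π hπ (Nat.coprime_two_right.2 hodd)
    (isPGroup_zpowers_of_sq hx)]
  exact Group.isSolvable_of_surjective (π.subgroupMap_surjective _)

/-- An element of square one in the image of `S` modulo an odd normal subgroup has a lift of
square one. -/
theorem sq_eq_one_of_map (hodd : Odd (Nat.card π.ker)) {S : Sylow 2 G} {s : G}
    (hs : s ∈ (S : Subgroup G)) (h : π s * π s = 1) : s * s = 1 :=
  eq_one_of_two_of_odd S.isPGroup' hodd ((S : Subgroup G).mul_mem hs hs)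
    (by rw [MonoidHom.mem_ker, map_mul, h])

end quotient

end Cfsg.Agent.U3Sylow69
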