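import Cfsg.Agent.U3Sylow69.Kill
import Cfsg.Agent.S0949
import Cfsg.Agent.UnbalTriple.Scn3

/-!
Groups with a homocyclic Sylow 2-subgroup of exponent four in which centralisers of non-central
involutions are solvable are solvable.
-/

set_option autoImplicit false
set_option linter.style.haveILetI false
set_option linter.unusedSectionVars false

namespace Cfsg.Agent.U3Sylow69

open Subgroup BenderCons37 CISylow69

universe u

variable {G : Type u} [Group G] [Finite G]

/-- The hypothesis on a group with homocyclic Sylow 2-subgroup `T`. -/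
structure Hom (T : Sylow 2 G) : Prop where
  comm : ∀ a ∈ (T : Subgroup G), ∀ b ∈ (T : Subgroup G), a * b = b * a
  exp4 : ∀ y ∈ (T : Subgroup G), (y * y) * (y * y) = 1
  div : ∀ z ∈ (T : Subgroup G), z * z = 1 → ∃ y ∈ (T : Subgroup G), y * y = z
  sol : ∀ z : G, orderOf z = 2 → z ∉ center G → Group.IsSolvable (centralizer ({z} : Set G))

theorem oddCore_normal : (Cfsg.oddCore G).Normal := Thompson.sSup_normal fun _ hN => hN.1

/-- A group is solvable if it is so modulo its odd core. -/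
theorem isSolvable_of_quotient_oddCore (h : Group.IsSolvable (G ⧸ Cfsg.oddCore G)) :
    Group.IsSolvable G := by
  haveI := h
  haveI : Group.IsSolvable (Cfsg.oddCore G) := PF14.feitThompson _ oddCore_card_odd
  exact Group.isSolvable_of_ker_le_range (Cfsg.oddCore G).subtype
    (QuotientGroup.mk' (Cfsg.oddCore G)) (by rw [QuotientGroup.ker_mk', Subgroup.range_subtype])

/-- An abelian Sylow 2-subgroup of exponent four whose elements of square one are fixed by the odd
part of its normaliser: the group is solvable. -/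
theorem isSolvable_of_fixed (T : Sylow 2 G)
    (hT : ∀ a ∈ (T : Subgroup G), ∀ b ∈ (T : Subgroup G), a * b = b * a)
    (h4 : ∀ y ∈ (T : Subgroup G), (y * y) * (y * y) = 1)
    (hfix : ∀ g ∈ normalizer ((T : Subgroup G) : Set G), Odd (orderOf g) →
      ∀ z ∈ (T : Subgroup G), z * z = 1 → g * z * g⁻¹ = z) : Group.IsSolvable G := by
  haveI : Fact (Nat.Prime 2) := ⟨Nat.prime_two⟩
  haveI : (T : Subgroup G).FiniteIndex := inferInstance
  have hodd : ∀ g ∈ normalizer ((T : Subgroup G) : Set G), Odd (orderOf g) →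
      ∀ y ∈ (T : Subgroup G), g * y * g⁻¹ = y := by
    intro g hg ho y hy
    set e := y⁻¹ * (g * y * g⁻¹) with he
    have hgy : g * y * g⁻¹ ∈ (T : Subgroup G) := (mem_normalizer_iff.1 hg y).1 hy
    have heT : e ∈ (T : Subgroup G) := mul_mem (inv_mem hy) hgy
    have hee : e * e = 1 := by
      have h1 : g * (y * y) * g⁻¹ = y * y := hfix g hg ho _ (mul_mem hy hy) (h4 y hy)
      have hc : Commute y⁻¹ (g * y * g⁻¹) := hT _ (inv_mem hy) _ hgy
      calc e * e = y⁻¹ * y⁻¹ * ((g * y * g⁻¹) * (g * y * g⁻¹)) := by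
            rw [he, hc.mul_mul_mul_comm]
        _ = y⁻¹ * y⁻¹ * (g * (y * y) * g⁻¹) := by group
        _ = 1 := by rw [h1]; group
    have hgy' : g * y * g⁻¹ = y * e := by rw [he, mul_inv_cancel_left]
    have hge : g * e * g⁻¹ = e := hfix g hg ho e heT hee
    have hpow : ∀ k : ℕ, g ^ k * y * (g ^ k)⁻¹ = y * e ^ k := by
      intro k
      induction k with
      | zero => simp
      | succ k ih =>
        have hek : g * e ^ k * g⁻¹ = e ^ k := by rw [← conj_pow, hge]
        calc g ^ (k + 1) * y * (g ^ (k + 1))⁻¹ = g * (g ^ k * y * (g ^ k)⁻¹) * g⁻¹ := by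
              rw [pow_succ']; group
          _ = g * (y * e ^ k) * g⁻¹ := by rw [ih]
          _ = (g * y * g⁻¹) * (g * e ^ k * g⁻¹) := by group
          _ = y * e ^ (k + 1) := by rw [hgy', hek, pow_succ', mul_assoc]
    have h1 := hpow (orderOf g)
    rw [pow_orderOf_eq_one, one_mul, inv_one, mul_one, eq_comm, mul_eq_left] at h1
    obtain ⟨m, hm⟩ := ho
    rw [hm, pow_add, pow_mul, pow_two, hee, one_pow, one_mul, pow_one] at h1
    rw [hgy', h1, mul_one]
  have hN : normalizer ((T : Subgroup G) : Set G) ≤ centralizer ((T : Subgroup G) : Set G) := by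
    intro g hg
    obtain ⟨k, m, hm, hkm⟩ := Nat.exists_eq_two_pow_mul_odd (orderOf_pos g).ne'
    have h1 : g ^ 2 ^ k ∈ centralizer ((T : Subgroup G) : Set G) := by
      rw [mem_centralizer_iff]
      intro y hy
      have := hodd _ (pow_mem hg _) (hm.of_dvd_nat (orderOf_dvd_of_pow_eq_one (by
        rw [← pow_mul, ← hkm, pow_orderOf_eq_one]))) y hy
      calc y * g ^ 2 ^ k = g ^ 2 ^ k * y * (g ^ 2 ^ k)⁻¹ * g ^ 2 ^ k := by rw [this]
        _ = g ^ 2 ^ k * y := by group
    have h2 : g ^ m ∈ (T : Subgroup G) := by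
      have hp : IsPGroup 2 ↥(zpowers (g ^ m)) := by
        rintro ⟨x, hx⟩
        obtain ⟨i, rfl⟩ := mem_zpowers_iff.1 hx
        refine ⟨k, Subtype.ext ?_⟩
        show ((g ^ m) ^ i) ^ 2 ^ k = 1
        rw [← zpow_natCast, ← zpow_mul, mul_comm, zpow_mul, zpow_natCast, ← pow_mul, mul_comm m,
          ← hkm, pow_orderOf_eq_one, one_zpow]
      obtain ⟨X, hX⟩ := (hp.to_sup_of_normal_right' T.isPGroup'
        (zpowers_le.2 (pow_mem hg m))).exists_le_sylow
      rw [show T = X from sylow_eq_of_le (le_sup_right.trans hX)]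
      exact hX (mem_sup_left (mem_zpowers _))
    have h2' : g ^ m ∈ centralizer ((T : Subgroup G) : Set G) :=
      mem_centralizer_iff.2 fun y hy => hT y hy _ h2
    have hb := Nat.gcd_eq_gcd_ab (2 ^ k) m
    rw [Nat.Coprime.gcd_eq_one ((Nat.coprime_two_left.2 hm).pow_left k), Nat.cast_one] at hb
    have : g = (g ^ 2 ^ k) ^ Nat.gcdA (2 ^ k) m * (g ^ m) ^ Nat.gcdB (2 ^ k) m := by
      rw [← zpow_natCast, ← zpow_mul, ← zpow_natCast g m, ← zpow_mul, ← zpow_add, ← hb, zpow_one]
    rw [this]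
    exact mul_mem (zpow_mem h1 _) (zpow_mem h2' _)
  set f := MonoidHom.transferSylow T hN with hf
  have hK := MonoidHom.ker_transferSylow_isComplement' T hN
  rw [← hf] at hK
  have hodd' : Odd (Nat.card f.ker) := by
    rw [← Nat.not_even_iff_odd, even_iff_two_dvd, ← hK.index_eq_card]
    exact T.not_dvd_index
  haveI : Group.IsSolvable f.ker := PF14.feitThompson _ hodd'
  haveI : Group.IsSolvable (T : Subgroup G) :=
    Group.isSolvable_of_comm fun a b => Subtype.ext (hT a a.2 b b.2)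
  exact Group.isSolvable_of_ker_le_range f.ker.subtype f (by rw [Subgroup.range_subtype])

/-- A group with an abelian normal Sylow 2-subgroup is solvable. -/
theorem isSolvable_of_normal (T : Sylow 2 G)
    (hT : ∀ a ∈ (T : Subgroup G), ∀ b ∈ (T : Subgroup G), a * b = b * a)
    (hn : (T : Subgroup G).Normal) : Group.IsSolvable G := by
  haveI : Fact (Nat.Prime 2) := ⟨Nat.prime_two⟩
  haveI := hn
  haveI : Group.IsSolvable (T : Subgroup G) :=
    Group.isSolvable_of_comm fun a b => Subtype.ext (hT a a.2 b b.2)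
  haveI : Group.IsSolvable (G ⧸ (T : Subgroup G)) := PF14.feitThompson _ (by
    rw [← Subgroup.index_eq_card, ← Nat.not_even_iff_odd, even_iff_two_dvd]
    exact T.not_dvd_index)
  exact Group.isSolvable_of_ker_le_range (T : Subgroup G).subtype
    (QuotientGroup.mk' (T : Subgroup G)) (by rw [QuotientGroup.ker_mk', Subgroup.range_subtype])

/-- The involutions and one in an abelian subgroup. -/
def omegaOf (T : Subgroup G) (hT : ∀ a ∈ T, ∀ b ∈ T, a * b = b * a) : Subgroup G where
  carrier := {x | x ∈ T ∧ x * x = 1}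
  one_mem' := ⟨T.one_mem, one_mul 1⟩
  mul_mem' := fun {a b} ha hb => ⟨T.mul_mem ha.1 hb.1, by
    rw [(show Commute b a from hT b hb.1 a ha.1).mul_mul_mul_comm, ha.2, hb.2, one_mul]⟩
  inv_mem' := fun {a} ha => ⟨T.inv_mem ha.1, by rw [← mul_inv_rev, ha.2, inv_one]⟩

/-- Sylow 2-subgroup of order sixteen with square map onto a four-group, and no odd normal
subgroup. -/
theorem isSolvable_of_sixteen (hO : Cfsg.oddCore G = ⊥) (T : Sylow 2 G)
    (hT : ∀ a ∈ (T : Subgroup G), ∀ b ∈ (T : Subgroup G), a * b = b * a)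
    (h4 : ∀ y ∈ (T : Subgroup G), (y * y) * (y * y) = 1)
    (hdiv : ∀ z ∈ (T : Subgroup G), z * z = 1 → ∃ y ∈ (T : Subgroup G), y * y = z)
    (hcard : Nat.card (omegaOf (T : Subgroup G) hT) = 4) : Group.IsSolvable G := by
  classical
  haveI : Fact (Nat.Prime 2) := ⟨Nat.prime_two⟩
  set Ω := omegaOf (T : Subgroup G) hT with hΩ
  haveI := Fintype.ofFinite Ω
  obtain ⟨z₁, hz₁⟩ : ∃ z : Ω, z ≠ 1 := by
    haveI : Nontrivial Ω := Finite.one_lt_card_iff_nontrivial.1 (by omega)
    exact exists_ne 1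
  obtain ⟨z₂, hz₂, hz₂'⟩ : ∃ z : Ω, z ≠ 1 ∧ z ≠ z₁ := by
    by_contra hh
    push Not at hh
    have h1 : (Finset.univ : Finset Ω) ⊆ {1, z₁} := fun z _ => by
      by_cases hz : z = 1
      · simp [hz]
      · simp [hh z hz]
    have h2 := (Finset.card_le_card h1).trans Finset.card_le_two
    rw [Finset.card_univ, ← Nat.card_eq_fintype_card, hcard] at h2
    omega
  have hsqΩ : ∀ z : Ω, z * z = 1 := fun z => Subtype.ext z.2.2
  have hinv : ∀ z : Ω, z⁻¹ = z := fun z => inv_eq_of_mul_eq_one_right (hsqΩ z)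
  have h12 : z₁ * z₂ ≠ 1 := fun h => hz₂' (by rw [← inv_eq_of_mul_eq_one_right h, hinv])
  have hall : ∀ z : Ω, z = 1 ∨ z = z₁ ∨ z = z₂ ∨ z = z₁ * z₂ := by
    have h1 : ({1, z₁, z₂, z₁ * z₂} : Finset Ω) = Finset.univ := by
      refine Finset.eq_univ_of_card _ ?_
      rw [← Nat.card_eq_fintype_card, hcard, Finset.card_insert_of_notMem, Finset.card_insert_of_notMem,
        Finset.card_insert_of_notMem, Finset.card_singleton]
      · simp [hz₁]
      · simp [hz₂'.symm, hz₂]
      · simp [hz₁.symm, hz₂.symm, h12.symm]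
    intro z
    have h2 : z ∈ ({1, z₁, z₂, z₁ * z₂} : Finset Ω) := h1 ▸ Finset.mem_univ z
    simpa using h2
  obtain ⟨a, ha, haz⟩ := hdiv z₁ z₁.2.1 z₁.2.2
  obtain ⟨b, hb, hbz⟩ := hdiv z₂ z₂.2.1 z₂.2.2
  have hab : Commute a b := hT a ha b hb
  have ha4 : a ^ 4 = 1 := by rw [show 4 = 2 * 2 from rfl, pow_mul, pow_two, pow_two, h4 a ha]
  have hb4 : b ^ 4 = 1 := by rw [show 4 = 2 * 2 from rfl, pow_mul, pow_two, pow_two, h4 b hb]
  let φ : Multiplicative (ZMod 4 × ZMod 4) →* (T : Subgroup G) :=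
    MonoidHom.mk' (fun x => ⟨a ^ x.toAdd.1.val * b ^ x.toAdd.2.val,
        mul_mem (pow_mem ha _) (pow_mem hb _)⟩)
      (fun x y => Subtype.ext (by
        show a ^ (x.toAdd.1 + y.toAdd.1).val * b ^ (x.toAdd.2 + y.toAdd.2).val =
          a ^ x.toAdd.1.val * b ^ x.toAdd.2.val * (a ^ y.toAdd.1.val * b ^ y.toAdd.2.val)
        rw [ZMod.val_add, ZMod.val_add, ← pow_eq_pow_mod _ ha4, ← pow_eq_pow_mod _ hb4, pow_add,
          pow_add, (hab.pow_pow _ _).mul_mul_mul_comm]))
  have hφval : ∀ i j : ℕ, i < 4 → j < 4 →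
      ((φ (Multiplicative.ofAdd ((i : ZMod 4), (j : ZMod 4))) : (T : Subgroup G)) : G) =
        a ^ i * b ^ j := fun i j hi hj => by
    show a ^ ((i : ℕ) : ZMod 4).val * b ^ ((j : ℕ) : ZMod 4).val = _
    rw [ZMod.val_cast_of_lt hi, ZMod.val_cast_of_lt hj]
  have hsurj : Function.Surjective φ := by
    rintro ⟨y, hy⟩
    have hrange : ∀ u v : ℕ, a ^ u * b ^ v ∈ φ.range.map (T : Subgroup G).subtype := fun u v => by
      rw [pow_eq_pow_mod _ ha4, pow_eq_pow_mod v hb4]
      exact ⟨φ _, ⟨_, rfl⟩, hφval _ _ (Nat.mod_lt _ (by norm_num)) (Nat.mod_lt _ (by norm_num))⟩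
    have hΩr : ∀ z : Ω, (z : G) ∈ φ.range.map (T : Subgroup G).subtype := by
      intro z
      rcases hall z with rfl | rfl | rfl | rfl
      · exact one_mem _
      · have := hrange 2 0; rwa [pow_zero, mul_one, pow_two, haz] at this
      · have := hrange 0 2; rwa [pow_zero, one_mul, pow_two, hbz] at this
      · have := hrange 2 2; rwa [pow_two, pow_two, haz, hbz] at this
    obtain ⟨u, v, huv⟩ : ∃ u v : ℕ, y * y = (a ^ u * b ^ v) * (a ^ u * b ^ v) := by
      have hsq : ∀ u v : ℕ, (a ^ u * b ^ v) * (a ^ u * b ^ v) = (a * a) ^ u * (b * b) ^ v := by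
        intro u v
        rw [(hab.pow_pow u v).symm.mul_mul_mul_comm, (Commute.refl a).mul_pow,
          (Commute.refl b).mul_pow]
      rcases hall ⟨y * y, mul_mem hy hy, h4 y hy⟩ with h | h | h | h <;>
        replace h := congrArg Subtype.val h
      · exact ⟨0, 0, by simpa using h⟩
      · exact ⟨1, 0, by rw [hsq, haz, hbz]; simpa using h⟩
      · exact ⟨0, 1, by rw [hsq, haz, hbz]; simpa using h⟩
      · exact ⟨1, 1, by rw [hsq, haz, hbz]; simpa using h⟩
    set c := a ^ u * b ^ v with hc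
    have hcT : c ∈ (T : Subgroup G) := mul_mem (pow_mem ha _) (pow_mem hb _)
    have hz : (y * c⁻¹) * (y * c⁻¹) = 1 := by
      rw [(show Commute c⁻¹ y from hT _ (inv_mem hcT) y hy).mul_mul_mul_comm, huv]
      group
    have h1 : y * c⁻¹ * c ∈ φ.range.map (T : Subgroup G).subtype :=
      mul_mem (hΩr ⟨_, mul_mem hy (inv_mem hcT), hz⟩) (hrange u v)
    rw [inv_mul_cancel_right] at h1
    obtain ⟨t, ⟨x, rfl⟩, ht⟩ := h1
    exact ⟨x, Subtype.ext ht⟩
  have hinj : Function.Injective φ := by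
    rw [injective_iff_map_eq_one]
    intro x hx
    have e : a ^ x.toAdd.1.val * b ^ x.toAdd.2.val = 1 := congrArg Subtype.val hx
    have h1 : (1 : G) ≠ z₁ := fun h => hz₁ (Subtype.ext h.symm)
    have h2 : (1 : G) ≠ z₂ := fun h => hz₂ (Subtype.ext h.symm)
    have h3 : (1 : G) ≠ (z₁ : G) * z₂ := fun h => h12 (Subtype.ext h.symm)
    -- reduce to the even case by squaring
    have e2 : (z₁ : G) ^ x.toAdd.1.val * (z₂ : G) ^ x.toAdd.2.val = 1 := by
      rw [← haz, ← hbz, (Commute.refl a).mul_pow, (Commute.refl b).mul_pow,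
        (hab.pow_pow _ _).mul_mul_mul_comm, e, one_mul]
    have key : ∀ u v : ℕ, u < 2 → v < 2 → (z₁ : G) ^ u * (z₂ : G) ^ v = 1 → u = 0 ∧ v = 0 := by
      intro u v hu hv huv
      interval_cases u <;> interval_cases v <;> simp_all
    have hz12 : (z₁ : G) ^ 2 = 1 := by rw [pow_two]; exact z₁.2.2
    have hz22 : (z₂ : G) ^ 2 = 1 := by rw [pow_two]; exact z₂.2.2
    rw [pow_eq_pow_mod _ hz12, pow_eq_pow_mod (x.toAdd.2.val) hz22] at e2
    obtain ⟨hu, hv⟩ := key _ _ (Nat.mod_lt _ two_pos) (Nat.mod_lt _ two_pos) e2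
    obtain ⟨i, hi⟩ := Nat.dvd_of_mod_eq_zero hu
    obtain ⟨j, hj⟩ := Nat.dvd_of_mod_eq_zero hv
    rw [hi, hj, pow_mul, pow_mul, pow_two, pow_two, haz, hbz] at e
    have hi' : i < 2 := by have := ZMod.val_lt x.toAdd.1; omega
    have hj' : j < 2 := by have := ZMod.val_lt x.toAdd.2; omega
    obtain ⟨rfl, rfl⟩ := key i j hi' hj' e
    apply Multiplicative.toAdd.injective
    exact Prod.ext ((ZMod.val_eq_zero _).1 hi) ((ZMod.val_eq_zero _).1 hj)
  exact isSolvable_of_normal T hT (S0949.result T 2 le_rfl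
    (MulEquiv.ofBijective φ ⟨hinj, hsurj⟩).symm fun N hN hodd => by
      rw [eq_bot_iff, ← hO]
      exact Thompson.le_pPrimeCore hN (Nat.coprime_two_right.2 hodd)).1

/-- Solvable centralisers are invariant under conjugation. -/
theorem isSolvable_centralizer_conj {x : G} (g : G)
    (h : Group.IsSolvable (centralizer ({x} : Set G))) :
    Group.IsSolvable (centralizer ({g * x * g⁻¹} : Set G)) := by
  have e : (centralizer ({x} : Set G)).map (MulAut.conj g).toMonoidHom =
      centralizer ({g * x * g⁻¹} : Set G) := UnbalTriple.map_centralizer_singleton g x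
  haveI := h
  rw [← e]
  exact Group.isSolvable_of_surjective ((MulAut.conj g).toMonoidHom.subgroupMap_surjective _)

/-- A centraliser in a subgroup is solvable if the one in the group is. -/
theorem isSolvable_centralizer_subgroup {H : Subgroup G} (z : H)
    (h : Group.IsSolvable (centralizer ({(z : G)} : Set G))) :
    Group.IsSolvable (centralizer ({z} : Set H)) := by
  haveI := h
  let φ : centralizer ({z} : Set H) →* centralizer ({(z : G)} : Set G) :=
    (H.subtype.comp (centralizer ({z} : Set H)).subtype).codRestrict _ fun c =>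
      mem_centralizer_singleton_iff.2 (congrArg Subtype.val (mem_centralizer_singleton_iff.1 c.2))
  exact Group.isSolvable_of_isSolvable_injective (f := φ) fun a b e =>
    Subtype.ext (Subtype.ext (congrArg Subtype.val e :))

/-- The centre of a group with trivial odd core is a 2-group. -/
theorem isPGroup_center (hO : Cfsg.oddCore G = ⊥) : IsPGroup 2 (center G) := by
  rintro ⟨a, ha⟩
  obtain ⟨k, m, hm, hkm⟩ := Nat.exists_eq_two_pow_mul_odd (orderOf_pos a).ne'
  refine ⟨k, Subtype.ext ?_⟩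
  show a ^ 2 ^ k = 1
  have hn : (zpowers (a ^ 2 ^ k)).Normal := ⟨fun x hx g => by
    have hxc : x ∈ center G := (zpowers_le.2 (pow_mem ha _)) hx
    rw [mem_center_iff.1 hxc g, mul_inv_cancel_right]
    exact hx⟩
  have hle : zpowers (a ^ 2 ^ k) ≤ Cfsg.oddCore G := Thompson.le_pPrimeCore hn
    (Nat.coprime_two_right.2 (by
      rw [Nat.card_zpowers]
      exact hm.of_dvd_nat (orderOf_dvd_of_pow_eq_one (by
        rw [← pow_mul, ← hkm, pow_orderOf_eq_one]))))
  rw [hO, le_bot_iff, zpowers_eq_bot] at hle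
  exact hle

theorem isSolvable_of_hom_aux (hsp : BenderSplit.{u}) : ∀ (n : ℕ) (X : Type u) [Group X] [Finite X],
    Nat.card X ≤ n → ∀ T : Sylow 2 X, Hom T → Group.IsSolvable X := by
  intro n
  induction n with
  | zero => intro X _ _ h; exact absurd h (by have := Nat.card_pos (α := X); omega)
  | succ n ih => ?_
  intro X _ _ hXn T hT
  haveI : Fact (Nat.Prime 2) := ⟨Nat.prime_two⟩
  by_cases hO : Cfsg.oddCore X = ⊥
  swap
  · apply isSolvable_of_quotient_oddCore
    haveI := oddCore_normal (G := X)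
    set π := QuotientGroup.mk' (Cfsg.oddCore X) with hπ
    have hs : Function.Surjective π := QuotientGroup.mk'_surjective _
    have hodd : Odd (Nat.card π.ker) := by rw [hπ, QuotientGroup.ker_mk']; exact oddCore_card_odd
    refine ih _ ?_ (T.mapSurjective hs) ⟨?_, ?_, ?_, ?_⟩
    · have h1 := Subgroup.card_eq_card_quotient_mul_card_subgroup (Cfsg.oddCore X)
      have h2 : 2 ≤ Nat.card (Cfsg.oddCore X) := by
        by_contra hlt
        exact hO (Subgroup.card_eq_one.1 (by have := Nat.card_pos (α := Cfsg.oddCore X); omega))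
      have h3 := Nat.card_pos (α := X ⧸ Cfsg.oddCore X)
      nlinarith
    · rintro _ ⟨a, ha, rfl⟩ _ ⟨b, hb, rfl⟩
      rw [← map_mul, ← map_mul, hT.comm a ha b hb]
    · rintro _ ⟨a, ha, rfl⟩
      rw [← map_mul, ← map_mul, hT.exp4 a ha, map_one]
    · rintro _ ⟨a, ha, rfl⟩ h2
      obtain ⟨y, hy, hyy⟩ := hT.div a ha (sq_eq_one_of_map π hodd ha h2)
      exact ⟨π y, mem_map_of_mem π hy, by rw [← map_mul, hyy]⟩
    · intro z hz hzc
      obtain ⟨g, hg⟩ := exists_conj_mem (T.mapSurjective hs)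
        (isPGroup_zpowers_of_sq (TwoFusionB.sq_eq_one_of_inv hz))
      obtain ⟨s, hsT, hs'⟩ := hg z (mem_zpowers z)
      obtain ⟨g', rfl⟩ := hs g
      have e : z = π (g'⁻¹ * s * g') := by
        rw [map_mul, map_mul, map_inv, hs']; group
      have hss : s * s = 1 := sq_eq_one_of_map π hodd hsT (by
        rw [hs']; calc π g' * z * (π g')⁻¹ * (π g' * z * (π g')⁻¹) = π g' * (z * z) * (π g')⁻¹ := by group
          _ = 1 := by rw [TwoFusionB.sq_eq_one_of_inv hz]; group)
      have hss' : (g'⁻¹ * s * g') * (g'⁻¹ * s * g') = 1 := by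
        calc _ = g'⁻¹ * (s * s) * g' := by group
          _ = 1 := by rw [hss]; group
      have hne : g'⁻¹ * s * g' ≠ 1 := fun h => TwoFusionB.ne_one_of_inv hz (by rw [e, h, map_one])
      rw [e]
      refine isSolvable_centralizer_odd π hs hodd hss' (hT.sol _
        (orderOf_eq_two_of hne hss') fun hc => hzc ?_)
      rw [e, mem_center_iff]
      intro y
      obtain ⟨y, rfl⟩ := hs y
      rw [← map_mul, ← map_mul, mem_center_iff.1 hc y]
  -- trivial odd core: the quotient by the centre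
  set P := center X with hP
  have hP2 : IsPGroup 2 P := isPGroup_center hO
  have hPT : P ≤ (T : Subgroup X) :=
    (Thompson.le_pCore (p := 2) (inferInstance : P.Normal) hP2).trans (Thompson.pCore_le_sylow T)
  set π := QuotientGroup.mk' P with hπ
  have hs : Function.Surjective π := QuotientGroup.mk'_surjective _
  have hker : π.ker = P := QuotientGroup.ker_mk' P
  have hkc : π.ker ≤ center X := hker.le
  set U := T.mapSurjective hs with hU
  have hUc : ∀ a ∈ (U : Subgroup (X ⧸ P)), ∀ b ∈ (U : Subgroup (X ⧸ P)), a * b = b * a := by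
    rintro _ ⟨a, ha, rfl⟩ _ ⟨b, hb, rfl⟩
    rw [← map_mul, ← map_mul, hT.comm a ha b hb]
  have hU4 : ∀ y ∈ (U : Subgroup (X ⧸ P)), (y * y) * (y * y) = 1 := by
    rintro _ ⟨a, ha, rfl⟩
    rw [← map_mul, ← map_mul, hT.exp4 a ha, map_one]
  have hOq : Cfsg.oddCore (X ⧸ P) = ⊥ := oddCore_quotient_central P hP2 le_rfl hO
  haveI : Group.IsSolvable P := Group.isSolvable_of_comm fun a b =>
    Subtype.ext (mem_center_iff.1 b.2 a)
  have hback : Group.IsSolvable (X ⧸ P) → Group.IsSolvable X := fun h => by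
    haveI := h
    exact Group.isSolvable_of_ker_le_range P.subtype π (by rw [hker, Subgroup.range_subtype])
  -- centralisers in the quotient
  have hsolq : ∀ t : X ⧸ P, orderOf t = 2 → Group.IsSolvable (centralizer ({t} : Set (X ⧸ P))) := by
    intro t ht
    obtain ⟨g, hg⟩ := exists_conj_mem U (isPGroup_zpowers_of_sq (TwoFusionB.sq_eq_one_of_inv ht))
    obtain ⟨y, hy, hy'⟩ := hg t (mem_zpowers t)
    have h1 : Group.IsSolvable (centralizer ({y} : Set X)) := by
      have hTC : (T : Subgroup X) ≤ centralizer ({y} : Set X) := fun a ha =>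
        mem_centralizer_singleton_iff.2 (hT.comm a ha y hy)
      refine ih _ ?_ (T.subtype hTC) ⟨fun a ha b hb => Subtype.ext (hT.comm _ ha _ hb),
        fun a ha => Subtype.ext (hT.exp4 _ ha), fun z hz hzz => ?_, fun z hz hzc => ?_⟩
      · have hne : centralizer ({y} : Set X) ≠ ⊤ := fun htop => by
          have hyP : y ∈ P := mem_center_iff.2 fun a =>
            mem_centralizer_singleton_iff.1 (htop.symm ▸ mem_top a)
          refine TwoFusionB.ne_one_of_inv ((TwoFusionB.orderOf_conj_eq g t).trans ht) ?_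
          rw [← hy', ← MonoidHom.mem_ker, hker]
          exact hyP
        have h1 := Subgroup.card_le_card_group (centralizer ({y} : Set X))
        have h2 : Nat.card (centralizer ({y} : Set X)) ≠ Nat.card X := fun e =>
          hne (Subgroup.eq_top_of_card_eq _ e)
        omega
      · obtain ⟨w, hw, hww⟩ := hT.div z hz (congrArg Subtype.val hzz)
        exact ⟨⟨w, hTC hw⟩, hw, Subtype.ext hww⟩
      · refine isSolvable_centralizer_subgroup z (hT.sol _ (by rwa [Subgroup.orderOf_coe]) fun hc => ?_)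
        exact hzc (mem_center_iff.2 fun a => Subtype.ext (mem_center_iff.1 hc a))
    have h2 := isSolvable_centralizer_map π hs hkc y h1
    rw [hy'] at h2
    have h3 := isSolvable_centralizer_conj g⁻¹ h2
    rwa [show g⁻¹ * (g * t * g⁻¹) * g⁻¹⁻¹ = t by group] at h3
  have hsquares : (∀ y ∈ (U : Subgroup (X ⧸ P)), y * y = 1) → Group.IsSolvable X := fun hel => by
    refine isSolvable_of_fixed T hT.comm hT.exp4 fun g hg _ z hz hzz => ?_
    obtain ⟨y, hy, hyy⟩ := hT.div z hz hzz
    have hzP : z ∈ P := by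
      rw [← hker, MonoidHom.mem_ker, ← hyy, map_mul]
      exact hel _ (mem_map_of_mem π hy)
    rw [mem_center_iff.1 hzP g, mul_inv_cancel_right]
  set Ω := omegaOf (U : Subgroup (X ⧸ P)) hUc with hΩ
  by_cases h8 : 8 ≤ Nat.card Ω
  · have hΩel : Cfsg.IsElementaryAbelian 2 Ω :=
      ⟨⟨⟨fun a b => Subtype.ext (hUc _ a.2.1 _ b.2.1)⟩⟩, fun x hx => by rw [pow_two]; exact hx.2⟩
    have hcore : ∀ t : X ⧸ P, orderOf t = 2 → Cfsg.oddCore (centralizer ({t} : Set (X ⧸ P))) = ⊥ :=
      fun t ht => oddCore_centralizer hsp hOq U hΩel h8 (fun x hx => hx.1)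
        (fun s hs' x hx => by rw [hUc s hs' x hx.1, mul_inv_cancel_right]; exact hx) hsolq ht
    by_cases hne : normalizer ((U : Subgroup (X ⧸ P)) : Set (X ⧸ P)) = ⊤
    · exact hback (isSolvable_of_normal U hUc (normalizer_eq_top_iff.1 hne))
    obtain ⟨z, hz, hz2⟩ : ∃ z ∈ (U : Subgroup (X ⧸ P)), orderOf z = 2 := by
      haveI : Nontrivial Ω := Finite.one_lt_card_iff_nontrivial.1 (by omega)
      obtain ⟨z, hz⟩ := exists_ne (1 : Ω)
      exact ⟨z, z.2.1, orderOf_eq_two_of (fun e => hz (Subtype.ext e)) z.2.2⟩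
    have hse := stronglyEmbedded_of_centralizers U (Z := (U : Subgroup (X ⧸ P))) le_rfl
      (fun a ha b hb => hUc b hb a ha) hz hz2 hne le_rfl fun t ht ho => by
        have hUC : (U : Subgroup (X ⧸ P)) ≤ centralizer ({t} : Set (X ⧸ P)) := fun a ha =>
          mem_centralizer_singleton_iff.2 (hUc a ha t ht)
        have hn := normal_of_abelian (hsolq t ho) (hcore t ho) (U.subtype hUC)
          fun a ha b hb => Subtype.ext (hUc _ ha _ hb)
        exact (Subgroup.normal_subgroupOf_iff_le_normalizer hUC).1 hn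
    obtain ⟨hd, -, -⟩ := data_at hsp hOq U hse le_normalizer
    refine hsquares ((hd.comm_of_sq).resolve_right ?_)
    rintro ⟨a, ha, b, hb, hab⟩
    exact hab (hUc a ha b hb)
  by_cases hdiv : Nat.card Ω = 4 ∧ ∀ z ∈ (U : Subgroup (X ⧸ P)), z * z = 1 →
      ∃ y ∈ (U : Subgroup (X ⧸ P)), y * y = z
  · exact hback (isSolvable_of_sixteen hOq U hUc hU4 hdiv.2 hdiv.1)
  by_cases hel : ∀ y ∈ (U : Subgroup (X ⧸ P)), y * y = 1
  · exact hsquares hel
  push Not at hel
  obtain ⟨y₀, hy₀, hy₀2⟩ := hel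
  refine hback (isSolvable_of_fixed U hUc hU4 fun g hg ho z hz hzz => ?_)
  -- `g` permutes the at most four elements of `Ω` and fixes a non-trivial one
  classical
  haveI := Fintype.ofFinite Ω
  have hgΩ : ∀ w : Ω, g * (w : X ⧸ P) * g⁻¹ ∈ Ω := fun w =>
    ⟨(mem_normalizer_iff.1 hg w).1 w.2.1, by
      calc g * (w : X ⧸ P) * g⁻¹ * (g * w * g⁻¹) = g * ((w : X ⧸ P) * w) * g⁻¹ := by group
        _ = 1 := by rw [w.2.2]; group⟩
  let σ : Ω → Ω := fun w => ⟨_, hgΩ w⟩
  have hσ1 : σ 1 = 1 := Subtype.ext (by simp [σ])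
  have hσinj : Function.Injective σ := fun v w e =>
    Subtype.ext (mul_left_cancel (mul_right_cancel (congrArg Subtype.val e)))
  have hiter : ∀ (k : ℕ) (w : Ω), ((σ^[k] w : Ω) : X ⧸ P) = g ^ k * w * (g ^ k)⁻¹ := by
    intro k
    induction k with
    | zero => intro w; simp
    | succ k ih' =>
      intro w
      rw [Function.iterate_succ_apply', pow_succ']
      show g * ((σ^[k] w : Ω) : X ⧸ P) * g⁻¹ = _
      rw [ih']
      group
  have hord : ∀ w : Ω, σ^[orderOf g] w = w := fun w => Subtype.ext (by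
    rw [hiter, pow_orderOf_eq_one, one_mul, inv_one, mul_one])
  -- if some `w ≠ 1` is fixed then all are
  have hall : ∀ w₀ : Ω, w₀ ≠ 1 → σ w₀ = w₀ → ∀ w : Ω, σ w = w := by
    intro w₀ hw₀ hf w
    by_contra hw
    have hw1 : w ≠ 1 := fun e => hw (e.symm ▸ hσ1)
    have hw0 : w ≠ w₀ := fun e => hw (e.symm ▸ hf)
    have hσσ : σ (σ w) = w := by
      by_contra h2
      have h5 : ({1, w₀, w, σ w, σ (σ w)} : Finset Ω).card = 5 := by
        have a1 : σ w ≠ 1 := fun e => hw1 (hσinj (e.trans hσ1.symm))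
        have a2 : σ w ≠ w₀ := fun e => hw0 (hσinj (e.trans hf.symm))
        have a3 : σ (σ w) ≠ 1 := fun e => a1 (hσinj (e.trans hσ1.symm))
        have a4 : σ (σ w) ≠ w₀ := fun e => a2 (hσinj (e.trans hf.symm))
        have a5 : σ (σ w) ≠ σ w := fun e => hw (hσinj e)
        rw [Finset.card_insert_of_notMem, Finset.card_insert_of_notMem, Finset.card_insert_of_notMem,
          Finset.card_insert_of_notMem, Finset.card_singleton]
        · simp [a5.symm]
        · simp [Ne.symm hw, Ne.symm h2]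
        · simp [hw0.symm, a2.symm, a4.symm]
        · simp [hw₀.symm, hw1.symm, a1.symm, a3.symm]
      have hle : ({1, w₀, w, σ w, σ (σ w)} : Finset Ω).card ≤ Nat.card Ω := by
        rw [Nat.card_eq_fintype_card]; exact Finset.card_le_univ _
      have hpow : ∃ j, Nat.card Ω = 2 ^ j :=
        IsPGroup.iff_card.1 (U.isPGroup'.to_le fun x hx => hx.1)
      obtain ⟨j, hj⟩ := hpow
      have hj3 : j < 3 := by
        by_contra hge
        have := Nat.pow_le_pow_right (show 1 ≤ 2 by norm_num) (not_lt.1 hge)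
        omega
      interval_cases j <;> omega
    obtain ⟨m, hm⟩ := ho
    have := hord w
    rw [hm, show 2 * m + 1 = (2 * m).succ from rfl, Function.iterate_succ_apply',
      Function.iterate_mul] at this
    have hfix2 : Function.IsFixedPt (σ^[2]) w := hσσ
    rw [(hfix2.iterate m).eq] at this
    exact hw this
  suffices hall' : ∀ w : Ω, σ w = w from congrArg Subtype.val (hall' ⟨z, hz, hzz⟩)
  by_contra hnot
  -- the squares of `U` would be all of `Ω`
  apply hdiv
  have hmove : ∀ w : Ω, w ≠ 1 → σ w ≠ w := fun w hw e => hnot (hall w hw e)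
  set w₁ : Ω := ⟨y₀ * y₀, mul_mem hy₀ hy₀, hU4 y₀ hy₀⟩ with hw₁
  have hw11 : w₁ ≠ 1 := fun e => hy₀2 (congrArg Subtype.val e)
  have hw2 : σ w₁ ≠ 1 := fun e => hw11 (hσinj (e.trans hσ1.symm))
  have hw3 : σ (σ w₁) ≠ w₁ := by
    intro e
    obtain ⟨m, hm⟩ := ho
    have := hord w₁
    rw [hm, show 2 * m + 1 = (2 * m).succ from rfl, Function.iterate_succ_apply',
      Function.iterate_mul] at this
    have hfix2 : Function.IsFixedPt (σ^[2]) w₁ := e
    rw [(hfix2.iterate m).eq] at this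
    exact hmove w₁ hw11 this
  have hcard4 : ({1, w₁, σ w₁, σ (σ w₁)} : Finset Ω).card = 4 := by
    have a3 : σ (σ w₁) ≠ 1 := fun e => hw2 (hσinj (e.trans hσ1.symm))
    rw [Finset.card_insert_of_notMem, Finset.card_insert_of_notMem, Finset.card_insert_of_notMem,
      Finset.card_singleton]
    · simpa using fun e => hmove w₁ hw11 (hσinj e).symm
    · simp [(hmove w₁ hw11).symm, hw3.symm]
    · simp [hw11.symm, hw2.symm, a3.symm]
  have hle : 4 ≤ Nat.card Ω := by
    rw [← hcard4, Nat.card_eq_fintype_card]; exact Finset.card_le_univ _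
  have hΩ4 : Nat.card Ω = 4 := by
    obtain ⟨j, hj⟩ := IsPGroup.iff_card.1 (U.isPGroup'.to_le fun x hx => hx.1 : IsPGroup 2 Ω)
    have hj3 : j < 3 := by
      by_contra hge
      have := Nat.pow_le_pow_right (show 1 ≤ 2 by norm_num) (not_lt.1 hge)
      omega
    interval_cases j <;> omega
  refine ⟨hΩ4, fun w hw hww => ?_⟩
  have huniv : ({1, w₁, σ w₁, σ (σ w₁)} : Finset Ω) = Finset.univ :=
    Finset.eq_univ_of_card _ (by rw [hcard4, ← Nat.card_eq_fintype_card, hΩ4])
  have hmem : (⟨w, hw, hww⟩ : Ω) ∈ ({1, w₁, σ w₁, σ (σ w₁)} : Finset Ω) := huniv ▸ Finset.mem_univ _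
  have hN := hg
  simp only [Finset.mem_insert, Finset.mem_singleton] at hmem
  rcases hmem with h | h | h | h <;> replace h := congrArg Subtype.val h
  · exact ⟨1, one_mem _, by rw [one_mul]; exact h.symm⟩
  · exact ⟨y₀, hy₀, h.symm⟩
  · refine ⟨g * y₀ * g⁻¹, (mem_normalizer_iff.1 hg _).1 hy₀, ?_⟩
    calc g * y₀ * g⁻¹ * (g * y₀ * g⁻¹) = g * (y₀ * y₀) * g⁻¹ := by group
      _ = w := h.symm
  · refine ⟨g * (g * y₀ * g⁻¹) * g⁻¹,
      (mem_normalizer_iff.1 hg _).1 ((mem_normalizer_iff.1 hg _).1 hy₀), ?_⟩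
    calc g * (g * y₀ * g⁻¹) * g⁻¹ * (g * (g * y₀ * g⁻¹) * g⁻¹)
        = g * (g * (y₀ * y₀) * g⁻¹) * g⁻¹ := by group
      _ = w := h.symm

/-- A group satisfying the homocyclic hypothesis is solvable. -/
theorem isSolvable_of_hom (hsp : BenderSplit.{u}) (T : Sylow 2 G) (hT : Hom T) :
    Group.IsSolvable G :=
  isSolvable_of_hom_aux hsp _ G le_rfl T hT

end Cfsg.Agent.U3Sylow69
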