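import Cfsg.Agent.U3Sylow69.Shape
import Cfsg.Agent.U3Sylow69.Hom
import Cfsg.Agent.CISylow69.Main

/-!
A group whose Sylow 2-subgroup has the shape of that of `PSU₃(2^n)` and which has a central
involution is 2-closed modulo its odd core.
-/

set_option autoImplicit false
set_option linter.style.haveILetI false
set_option linter.unusedSectionVars false

namespace Cfsg.Agent.U3Sylow69

open Subgroup BenderCons37 CISylow69
open scoped commutatorElement

universe u

variable {G : Type u} [Group G] [Finite G] {n : ℕ}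

/-- `G` is 2-closed modulo its odd core. -/
def Closed (S : Sylow 2 G) : Prop :=
  ((S : Subgroup G).map (QuotientGroup.mk' (Cfsg.oddCore G))).Normal

theorem normal_of_closed {S : Sylow 2 G} (h : Closed S) (hO : Cfsg.oddCore G = ⊥) :
    (S : Subgroup G).Normal := by
  haveI := oddCore_normal (G := G)
  have hc := h.comap (QuotientGroup.mk' (Cfsg.oddCore G))
  rwa [Subgroup.comap_map_eq, QuotientGroup.ker_mk', hO, sup_bot_eq] at hc

theorem closed_of_normal {S : Sylow 2 G} (h : (S : Subgroup G).Normal) : Closed S :=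
  h.map _ (QuotientGroup.mk'_surjective _)

/-- A 2-subgroup lies in a normal Sylow subgroup. -/
theorem le_of_normal (S : Sylow 2 G) (h : (S : Subgroup G).Normal) {P : Subgroup G}
    (hP : IsPGroup 2 P) : P ≤ (S : Subgroup G) := by
  haveI := h
  obtain ⟨X, hX⟩ := (hP.to_sup_of_normal_right' S.isPGroup'
    (by rw [normalizer_eq_top]; exact le_top)).exists_le_sylow
  rw [show S = X from sylow_eq_of_le (le_sup_right.trans hX)]
  exact le_sup_left.trans hX

theorem isSolvable_of_closed {S : Sylow 2 G} (h : Closed S) : Group.IsSolvable G := by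
  haveI : Fact (Nat.Prime 2) := ⟨Nat.prime_two⟩
  apply isSolvable_of_quotient_oddCore
  haveI := oddCore_normal (G := G)
  set π := QuotientGroup.mk' (Cfsg.oddCore G)
  set U := S.mapSurjective (QuotientGroup.mk'_surjective (Cfsg.oddCore G)) with hU
  haveI hUn : (U : Subgroup (G ⧸ Cfsg.oddCore G)).Normal := h
  haveI : Group.IsNilpotent (U : Subgroup (G ⧸ Cfsg.oddCore G)) := U.isPGroup'.isNilpotent
  haveI : Group.IsSolvable ((G ⧸ Cfsg.oddCore G) ⧸ (U : Subgroup (G ⧸ Cfsg.oddCore G))) :=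
    PF14.feitThompson _ (by
      rw [← Subgroup.index_eq_card, ← Nat.not_even_iff_odd, even_iff_two_dvd]
      exact U.not_dvd_index)
  haveI : Group.IsSolvable (U : Subgroup (G ⧸ Cfsg.oddCore G)) := inferInstance
  exact Group.isSolvable_of_ker_le_range (U : Subgroup (G ⧸ Cfsg.oddCore G)).subtype
    (QuotientGroup.mk' (U : Subgroup (G ⧸ Cfsg.oddCore G)))
    (by rw [QuotientGroup.ker_mk', Subgroup.range_subtype])

/-- The restriction of the quotient map to a Sylow subgroup. -/
theorem UShape.map {G' : Type u} [Group G'] (π : G →* G') {S : Sylow 2 G}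
    (h : UShape n (S : Subgroup G)) (hodd : Odd (Nat.card π.ker)) :
    UShape n ((S : Subgroup G).map π) := by
  refine h.congr (MulEquiv.ofBijective (π.subgroupMap (S : Subgroup G))
    ⟨(injective_iff_map_eq_one _).2 fun x hx => Subtype.ext ?_, π.subgroupMap_surjective _⟩)
  exact eq_one_of_two_of_odd S.isPGroup' hodd x.2 (congrArg Subtype.val hx :)

theorem UShape.subtype {S : Sylow 2 G} (h : UShape n (S : Subgroup G)) {M : Subgroup G}
    (hSM : (S : Subgroup G) ≤ M) : UShape n ((S.subtype hSM : Sylow 2 M) : Subgroup M) :=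
  h.congr (Subgroup.subgroupOfEquivOfLe hSM).symm

/-- The elements of square one of `S`. -/
def zOf {S : Sylow 2 G} (h : UShape n (S : Subgroup G)) : Subgroup G where
  carrier := {x | x ∈ (S : Subgroup G) ∧ x * x = 1}
  one_mem' := ⟨one_mem _, one_mul 1⟩
  mul_mem' := fun {a b} ha hb => ⟨mul_mem ha.1 hb.1, by
    have hc : Commute b a := congrArg Subtype.val
      (h.central ⟨a, ha.1⟩ (Subtype.ext ha.2) ⟨b, hb.1⟩ :)
    rw [hc.mul_mul_mul_comm, ha.2, hb.2, one_mul]⟩
  inv_mem' := fun {a} ha => ⟨inv_mem ha.1, by rw [← mul_inv_rev, ha.2, inv_one]⟩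

section facts

variable {S : Sylow 2 G} (h : UShape n (S : Subgroup G))
include h

theorem zOf_comm {z s : G} (hz : z ∈ zOf h) (hs : s ∈ (S : Subgroup G)) : s * z = z * s :=
  congrArg Subtype.val (h.central ⟨z, hz.1⟩ (Subtype.ext hz.2) ⟨s, hs⟩ :)

theorem card_zOf : Nat.card (zOf h) = 2 ^ n := by
  rw [← h.cardInv]
  exact Nat.card_congr
    { toFun := fun x => ⟨⟨x, x.2.1⟩, Subtype.ext x.2.2⟩
      invFun := fun x => ⟨(x : (S : Subgroup G)), x.1.2, congrArg Subtype.val x.2⟩
      left_inv := fun _ => rfl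
      right_inv := fun _ => rfl }

theorem sq_mem_zOf {x : G} (hx : x ∈ (S : Subgroup G)) : x * x ∈ zOf h :=
  ⟨mul_mem hx hx, congrArg Subtype.val (h.sq ⟨x, hx⟩ :)⟩

theorem comm_mem_zOf {a s : G} (ha : a ∈ (S : Subgroup G)) (hs : s ∈ (S : Subgroup G)) :
    a * s * a⁻¹ * s⁻¹ ∈ zOf h := by
  have h1 := sq_mem_zOf h (mul_mem ha hs)
  have h2 := inv_mem (sq_mem_zOf h ha)
  have h3 := inv_mem (sq_mem_zOf h hs)
  have hc : s⁻¹ * (a * a)⁻¹ = (a * a)⁻¹ * s⁻¹ := zOf_comm h h2 (inv_mem hs)
  have : a * s * a⁻¹ * s⁻¹ = (a * s) * (a * s) * (a * a)⁻¹ * (s * s)⁻¹ := by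
    calc a * s * a⁻¹ * s⁻¹ = (a * s) * (a * s) * (s⁻¹ * (a * a)⁻¹) * s⁻¹ := by group
      _ = (a * s) * (a * s) * (a * a)⁻¹ * (s⁻¹ * s⁻¹) := by rw [hc]; group
      _ = _ := by group
  rw [this]
  exact mul_mem (mul_mem h1 h2) h3

theorem exists_sq_ne_one (hn : 1 ≤ n) : ∃ x ∈ (S : Subgroup G), x * x ≠ 1 := by
  by_contra hh
  push Not at hh
  have h1 : (S : Subgroup G) ≤ zOf h := fun x hx => ⟨hx, hh x hx⟩
  have h2 := Subgroup.card_le_of_le h1
  rw [card_zOf h, h.card] at h2
  exact absurd h2 (not_le.2 (Nat.pow_lt_pow_right (by norm_num) (by omega)))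

/-- The centraliser in `S` of an element of order four. -/
theorem card_inf_centralizer {x : G} (hx : x ∈ (S : Subgroup G)) (hx2 : x * x ≠ 1) :
    Nat.card ((S : Subgroup G) ⊓ centralizer ({x} : Set G) : Subgroup G) = 2 ^ (2 * n) := by
  rw [← h.cardCent ⟨x, hx⟩ fun e => hx2 (congrArg Subtype.val e :)]
  exact Nat.card_congr
    { toFun := fun y => ⟨⟨y, y.2.1⟩, Subtype.ext (mem_centralizer_singleton_iff.1 y.2.2)⟩
      invFun := fun y => ⟨(y : (S : Subgroup G)), y.1.2,
        mem_centralizer_singleton_iff.2 (congrArg Subtype.val y.2 :)⟩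
      left_inv := fun _ => rfl
      right_inv := fun _ => rfl }

theorem inf_centralizer_comm {x : G} (hx : x ∈ (S : Subgroup G)) (hx2 : x * x ≠ 1) :
    ∀ a ∈ ((S : Subgroup G) ⊓ centralizer ({x} : Set G) : Subgroup G),
      ∀ b ∈ ((S : Subgroup G) ⊓ centralizer ({x} : Set G) : Subgroup G), a * b = b * a :=
  fun a ha b hb => congrArg Subtype.val (h.comm ⟨x, hx⟩ (fun e => hx2 (congrArg Subtype.val e :))
    ⟨a, ha.1⟩ ⟨b, hb.1⟩ (Subtype.ext (mem_centralizer_singleton_iff.1 ha.2))
    (Subtype.ext (mem_centralizer_singleton_iff.1 hb.2)) :)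

theorem zOf_le_centralizer {x : G} (hx : x ∈ (S : Subgroup G)) :
    zOf h ≤ (S : Subgroup G) ⊓ centralizer ({x} : Set G) := fun _ hz =>
  ⟨hz.1, mem_centralizer_singleton_iff.2 (zOf_comm h hz hx).symm⟩

/-- Every element of square one is a square in `S ⊓ C(x)`. -/
theorem exists_sq {x : G} (hx : x ∈ (S : Subgroup G)) (hx2 : x * x ≠ 1) {z : G} (hz : z ∈ zOf h) :
    ∃ y ∈ ((S : Subgroup G) ⊓ centralizer ({x} : Set G) : Subgroup G), y * y = z := by
  set T : Subgroup G := (S : Subgroup G) ⊓ centralizer ({x} : Set G) with hT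
  let f : T →* zOf h := MonoidHom.mk' (fun a => ⟨(a : G) * a, sq_mem_zOf h a.2.1⟩) fun a b =>
    Subtype.ext (by
      show (a : G) * b * ((a : G) * b) = (a : G) * a * ((b : G) * b)
      exact (show Commute (b : G) (a : G) from
        inf_centralizer_comm h hx hx2 b b.2 a a.2).mul_mul_mul_comm (a : G) b)
  have hker : Nat.card f.ker = 2 ^ n := by
    rw [← card_zOf h]
    exact Nat.card_congr
      { toFun := fun a => ⟨((a : T) : G), a.1.2.1, (congrArg Subtype.val a.2 :)⟩
        invFun := fun a => ⟨⟨a, zOf_le_centralizer h hx a.2⟩, Subtype.ext a.2.2⟩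
        left_inv := fun _ => rfl
        right_inv := fun _ => rfl }
  have hr : Nat.card f.range = 2 ^ n := by
    have h1 := Subgroup.card_eq_card_quotient_mul_card_subgroup f.ker
    rw [card_inf_centralizer h hx hx2, hker,
      Nat.card_congr (QuotientGroup.quotientKerEquivRange f).toEquiv, two_mul, pow_add] at h1
    exact (Nat.eq_of_mul_eq_mul_right (by positivity) h1).symm
  have htop : f.range = ⊤ := Subgroup.eq_top_of_card_eq _ (by rw [hr, card_zOf h])
  obtain ⟨a, ha⟩ : (⟨z, hz⟩ : zOf h) ∈ f.range := htop ▸ mem_top _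
  exact ⟨a, a.2, (congrArg Subtype.val ha :)⟩

/-- `S ⊓ C(x)` is a Sylow 2-subgroup of `C(x)`. -/
theorem exists_sylow_centralizer {x : G} (hx : x ∈ (S : Subgroup G)) (hx2 : x * x ≠ 1) :
    ∃ T : Sylow 2 (centralizer ({x} : Set G)),
      (T : Subgroup (centralizer ({x} : Set G))).map (centralizer ({x} : Set G)).subtype =
        (S : Subgroup G) ⊓ centralizer ({x} : Set G) := by
  haveI : Fact (Nat.Prime 2) := ⟨Nat.prime_two⟩
  set C := centralizer ({x} : Set G) with hC
  set T₀ : Subgroup G := (S : Subgroup G) ⊓ C with hT₀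
  obtain ⟨T, hT⟩ := ((S.isPGroup'.to_le (inf_le_left : T₀ ≤ S)).of_equiv
    (Subgroup.subgroupOfEquivOfLe (inf_le_right : T₀ ≤ C)).symm).exists_le_sylow
  refine ⟨T, ?_⟩
  set T' := (T : Subgroup C).map C.subtype with hT'
  have hle : T₀ ≤ T' := fun a ha => ⟨⟨a, ha.2⟩, hT (mem_subgroupOf.2 ha), rfl⟩
  obtain ⟨R, hR⟩ := (T.isPGroup'.map C.subtype : IsPGroup 2 T').exists_le_sylow
  have hR' : UShape n (R : Subgroup G) := h.congr (S.equiv R)
  have hxR : x ∈ (R : Subgroup G) :=
    hR (hle ⟨hx, mem_centralizer_singleton_iff.2 rfl⟩)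
  refine (eq_of_le_of_card_ge hle ?_).symm
  rw [card_inf_centralizer h hx hx2, ← card_inf_centralizer hR' hxR hx2]
  exact Subgroup.card_le_of_le (le_inf hR (map_subtype_le _))

/-- The centraliser of an element of order four satisfies the homocyclic hypothesis if
centralisers of non-central involutions are solvable. -/
theorem isSolvable_centralizer_four (hsp : BenderSplit.{u})
    (hinv : ∀ z : G, orderOf z = 2 → z ∉ center G → Group.IsSolvable (centralizer ({z} : Set G)))
    {x : G} (hx : x ∈ (S : Subgroup G)) (hx2 : x * x ≠ 1) :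
    Group.IsSolvable (centralizer ({x} : Set G)) := by
  obtain ⟨T, hT⟩ := exists_sylow_centralizer h hx hx2
  have hmem : ∀ a : centralizer ({x} : Set G), a ∈ (T : Subgroup _) →
      (a : G) ∈ (S : Subgroup G) ⊓ centralizer ({x} : Set G) := fun a ha =>
    hT ▸ mem_map_of_mem (centralizer ({x} : Set G)).subtype ha
  refine isSolvable_of_hom hsp T ⟨fun a ha b hb => Subtype.ext
      (inf_centralizer_comm h hx hx2 _ (hmem a ha) _ (hmem b hb)),
    fun a ha => Subtype.ext (congrArg Subtype.val (h.sq ⟨a, (hmem a ha).1⟩) :), ?_, ?_⟩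
  · intro z hz hzz
    obtain ⟨y, hy, hyy⟩ := exists_sq h hx hx2 (z := (z : G))
      ⟨(hmem z hz).1, (congrArg Subtype.val hzz :)⟩
    rw [← hT] at hy
    obtain ⟨w, hw, rfl⟩ := hy
    exact ⟨w, hw, Subtype.ext hyy⟩
  · intro z hz hzc
    exact isSolvable_centralizer_subgroup z (hinv _ (by rwa [Subgroup.orderOf_coe]) fun hc =>
      hzc (mem_center_iff.2 fun a => Subtype.ext (mem_center_iff.1 hc a)))

/-- The map `s ↦ [s, x]` shows `|S| ≤ |S ⊓ C(x)| |E|` when it takes values in `E`. -/
theorem card_le_of_commutators {x : G} (hx : x ∈ (S : Subgroup G)) (hx2 : x * x ≠ 1)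
    {E : Subgroup G} (hE : ∀ s ∈ (S : Subgroup G), s * x * s⁻¹ * x⁻¹ ∈ E) :
    2 ^ n ≤ Nat.card E := by
  let f : (S : Subgroup G) →* G :=
    { toFun := fun s => (s : G) * x * (s : G)⁻¹ * x⁻¹
      map_one' := by simp
      map_mul' := fun s t => by
        show (s : G) * t * x * ((s : G) * t)⁻¹ * x⁻¹ =
          (s * x * (s : G)⁻¹ * x⁻¹) * ((t : G) * x * (t : G)⁻¹ * x⁻¹)
        have he := zOf_comm h (comm_mem_zOf h t.2 hx) s.2
        calc (s : G) * t * x * ((s : G) * t)⁻¹ * x⁻¹
            = s * ((t : G) * x * (t : G)⁻¹ * x⁻¹) * x * (s : G)⁻¹ * x⁻¹ := by group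
          _ = ((t : G) * x * (t : G)⁻¹ * x⁻¹) * (s * x * (s : G)⁻¹ * x⁻¹) := by rw [he]; group
          _ = _ := (zOf_comm h (comm_mem_zOf h t.2 hx)
              (mul_mem (mul_mem (mul_mem s.2 hx) (inv_mem s.2)) (inv_mem hx))).symm }
  have hker : Nat.card f.ker = 2 ^ (2 * n) := by
    rw [← card_inf_centralizer h hx hx2]
    exact Nat.card_congr
      { toFun := fun a => ⟨((a : (S : Subgroup G)) : G), a.1.2, mem_centralizer_singleton_iff.2 (by
          have h1 : ((a : (S : Subgroup G)) : G) * x * ((a : (S : Subgroup G)) : G)⁻¹ * x⁻¹ = 1 := a.2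
          rwa [mul_inv_eq_one, mul_inv_eq_iff_eq_mul] at h1)⟩
        invFun := fun a => ⟨⟨a, a.2.1⟩, by
          show (a : G) * x * (a : G)⁻¹ * x⁻¹ = 1
          rw [mem_centralizer_singleton_iff.1 a.2.2, mul_inv_cancel_right, mul_inv_cancel]⟩
        left_inv := fun _ => rfl
        right_inv := fun _ => rfl }
  have hr : Nat.card f.range = 2 ^ n := by
    have h1 := Subgroup.card_eq_card_quotient_mul_card_subgroup f.ker
    rw [h.card, hker, Nat.card_congr (QuotientGroup.quotientKerEquivRange f).toEquiv,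
      show 3 * n = n + 2 * n by ring, pow_add] at h1
    exact (Nat.eq_of_mul_eq_mul_right (by positivity) h1).symm
  refine hr.symm.le.trans (Subgroup.card_le_of_le ?_)
  rintro _ ⟨s, rfl⟩
  exact hE s s.2

end facts

/-- The central lemma. -/
theorem closed_aux (hsp : BenderSplit.{u}) (hn : 3 ≤ n) : ∀ (N : ℕ) (X : Type u) [Group X] [Finite X],
    Nat.card X ≤ N → ∀ S : Sylow 2 X, UShape n (S : Subgroup X) →
      (∃ z ∈ center X, orderOf z = 2) → Closed S := by
  intro N
  induction N with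
  | zero => intro X _ _ h; exact absurd h (by have := Nat.card_pos (α := X); omega)
  | succ N ih => ?_
  intro X _ _ hXn S hS hz
  haveI : Fact (Nat.Prime 2) := ⟨Nat.prime_two⟩
  by_cases hO : Cfsg.oddCore X = ⊥
  swap
  · haveI := oddCore_normal (G := X)
    set π := QuotientGroup.mk' (Cfsg.oddCore X) with hπ
    have hs : Function.Surjective π := QuotientGroup.mk'_surjective _
    have hodd : Odd (Nat.card π.ker) := by rw [hπ, QuotientGroup.ker_mk']; exact oddCore_card_odd
    have hlt : Nat.card (X ⧸ Cfsg.oddCore X) ≤ N := by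
      have h1 := Subgroup.card_eq_card_quotient_mul_card_subgroup (Cfsg.oddCore X)
      have h2 : 2 ≤ Nat.card (Cfsg.oddCore X) := by
        by_contra hlt
        exact hO (Subgroup.card_eq_one.1 (by have := Nat.card_pos (α := Cfsg.oddCore X); omega))
      have h3 := Nat.card_pos (α := X ⧸ Cfsg.oddCore X)
      nlinarith
    obtain ⟨z, hzc, hz2⟩ := hz
    have h1 := ih _ hlt (S.mapSurjective hs) (hS.map π hodd) ⟨π z, mem_center_iff.2 (fun y => by
        obtain ⟨y, rfl⟩ := hs y
        rw [← map_mul, ← map_mul, mem_center_iff.1 hzc y]), orderOf_eq_two_of (fun e => ?_)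
      (by rw [← map_mul, TwoFusionB.sq_eq_one_of_inv hz2, map_one])⟩
    · exact normal_of_closed h1 oddCore_quotient
    · have h4 := orderOf_dvd_natCard (⟨z, e⟩ : π.ker)
      rw [Subgroup.orderOf_mk z e, hz2] at h4
      exact Nat.not_even_iff_odd.2 hodd (even_iff_two_dvd.2 h4)
  apply closed_of_normal
  set E := center X with hE
  have hE2 : IsPGroup 2 E := isPGroup_center hO
  have hES : E ≤ (S : Subgroup X) :=
    (Thompson.le_pCore (p := 2) (inferInstance : E.Normal) hE2).trans (Thompson.pCore_le_sylow S)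
  have hEZ : E ≤ zOf hS := by
    intro e he
    refine ⟨hES he, ?_⟩
    by_contra h2
    have h1 := card_inf_centralizer hS (hES he) h2
    rw [inf_eq_left.2 (fun s _ => mem_centralizer_singleton_iff.2 (mem_center_iff.1 he s)), hS.card]
      at h1
    have := Nat.pow_right_injective le_rfl h1
    omega
  -- centralisers of non-central involutions
  have hClosed : ∀ z ∈ zOf hS, z ∉ E → ∀ hSC : (S : Subgroup X) ≤ centralizer ({z} : Set X),
      Closed (S.subtype hSC) := by
    intro z hz' hzE hSC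
    refine ih _ ?_ _ (hS.subtype hSC)
      ⟨⟨z, mem_centralizer_singleton_iff.2 rfl⟩, mem_center_iff.2 fun a =>
        Subtype.ext (mem_centralizer_singleton_iff.1 a.2), ?_⟩
    · have h1 := Subgroup.card_le_card_group (centralizer ({z} : Set X))
      have h2 : Nat.card (centralizer ({z} : Set X)) ≠ Nat.card X := fun e => hzE
        (mem_center_iff.2 fun a => mem_centralizer_singleton_iff.1
          ((Subgroup.eq_top_of_card_eq _ e).symm ▸ mem_top a))
      omega
    · rw [Subgroup.orderOf_mk]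
      exact orderOf_eq_two_of (fun e => hzE (e ▸ one_mem E)) hz'.2
  have hSC : ∀ z ∈ zOf hS, (S : Subgroup X) ≤ centralizer ({z} : Set X) := fun z hz' s hs =>
    mem_centralizer_singleton_iff.2 (zOf_comm hS hz' hs)
  have hinv : ∀ z : X, orderOf z = 2 → z ∉ center X →
      Group.IsSolvable (centralizer ({z} : Set X)) := by
    intro z hz2 hzc
    obtain ⟨g, hg⟩ := exists_conj_mem S (isPGroup_zpowers_of_sq (TwoFusionB.sq_eq_one_of_inv hz2))
    set w := g * z * g⁻¹ with hw
    have hw' : w ∈ zOf hS := ⟨hg z (mem_zpowers z), TwoFusionB.sq_eq_one_of_inv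
      ((TwoFusionB.orderOf_conj_eq g z).trans hz2)⟩
    have hwE : w ∉ E := fun hc => hzc (by
      have h1 := (inferInstance : (center X).Normal).conj_mem w hc g⁻¹
      simpa [hw, mul_assoc] using h1)
    have h3 := isSolvable_centralizer_conj g⁻¹ (isSolvable_of_closed (hClosed w hw' hwE (hSC w hw')))
    rwa [show g⁻¹ * (g * z * g⁻¹) * g⁻¹⁻¹ = z by group] at h3
  -- the quotient by the centre
  set π := QuotientGroup.mk' E with hπ
  have hs : Function.Surjective π := QuotientGroup.mk'_surjective _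
  have hker : π.ker = E := QuotientGroup.ker_mk' E
  have hkc : π.ker ≤ center X := hker.le
  have hk2 : IsPGroup 2 π.ker := hker.symm ▸ hE2
  have hOq : Cfsg.oddCore (X ⧸ E) = ⊥ := oddCore_quotient_central E hE2 le_rfl hO
  set U := S.mapSurjective hs with hU
  have hmemker : ∀ {a : X}, π a = 1 ↔ a ∈ E := fun {a} => by rw [← MonoidHom.mem_ker, hker]
  have hNS : ∀ g : X, π g ∈ normalizer ((U : Subgroup (X ⧸ E)) : Set (X ⧸ E)) →
      ∀ s ∈ (S : Subgroup X), g * s * g⁻¹ ∈ (S : Subgroup X) := by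
    intro g hg s hs'
    obtain ⟨r, hr, hr'⟩ : π g * π s * (π g)⁻¹ ∈ (S : Subgroup X).map π :=
      (mem_normalizer_iff.1 hg _).1 (mem_map_of_mem π hs')
    have h1 : π (r⁻¹ * (g * s * g⁻¹)) = 1 := by
      rw [map_mul, map_inv, hr', map_mul, map_mul, map_inv, inv_mul_cancel]
    have h2 := mul_mem hr (hES (hmemker.1 h1))
    rwa [mul_inv_cancel_left] at h2
  have hsolq : ∀ t : X ⧸ E, orderOf t = 2 → Group.IsSolvable (centralizer ({t} : Set (X ⧸ E))) := by
    intro t ht
    obtain ⟨g, hg⟩ := exists_conj_mem U (isPGroup_zpowers_of_sq (TwoFusionB.sq_eq_one_of_inv ht))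
    obtain ⟨y, hy, hy'⟩ := hg t (mem_zpowers t)
    have hyE : y ∉ E := fun hc => TwoFusionB.ne_one_of_inv ((TwoFusionB.orderOf_conj_eq g t).trans ht)
      (hy'.symm.trans (hmemker.2 hc))
    have h1 : Group.IsSolvable (centralizer ({y} : Set X)) := by
      by_cases hy2 : y * y = 1
      · exact hinv y (orderOf_eq_two_of (fun e => hyE (e ▸ one_mem E)) hy2) hyE
      · exact isSolvable_centralizer_four hS hsp hinv hy hy2
    have h2 := isSolvable_centralizer_map π hs hkc y h1
    rw [hy'] at h2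
    have h3 := isSolvable_centralizer_conj g⁻¹ h2
    rwa [show g⁻¹ * (g * t * g⁻¹) * g⁻¹⁻¹ = t by group] at h3
  -- the elementary abelian normal subgroup of `U`
  obtain ⟨x₀, hx₀, hx₀2⟩ := exists_sq_ne_one hS (by omega)
  set T₀ : Subgroup X := (S : Subgroup X) ⊓ centralizer ({x₀} : Set X) with hT₀
  have hTc := inf_centralizer_comm hS hx₀ hx₀2
  let A : Subgroup X :=
    { carrier := {y | y ∈ T₀ ∧ y * y ∈ E}
      one_mem' := ⟨one_mem _, by rw [one_mul]; exact one_mem _⟩
      mul_mem' := fun {a b} ha hb => ⟨mul_mem ha.1 hb.1, by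
        rw [(show Commute b a from hTc b hb.1 a ha.1).mul_mul_mul_comm]
        exact mul_mem ha.2 hb.2⟩
      inv_mem' := fun {a} ha => ⟨inv_mem ha.1, by rw [← mul_inv_rev]; exact inv_mem ha.2⟩ }
  have hZA : zOf hS ≤ A := fun z hz' => ⟨zOf_le_centralizer hS hx₀ hz', by
    rw [hz'.2]; exact one_mem _⟩
  have hEA : E ≤ A := hEZ.trans hZA
  have hAel : Cfsg.IsElementaryAbelian 2 (A.map π) := by
    refine ⟨⟨⟨?_⟩⟩, ?_⟩
    · rintro ⟨_, a, ha, rfl⟩ ⟨_, b, hb, rfl⟩
      refine Subtype.ext ?_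
      show π a * π b = π b * π a
      rw [← map_mul, ← map_mul, hTc a ha.1 b hb.1]
    · rintro _ ⟨a, ha, rfl⟩
      rw [pow_two, ← map_mul, hmemker]
      exact ha.2
  have hA8 : 8 ≤ Nat.card (A.map π) := by
    let f : A →* E := MonoidHom.mk' (fun a => ⟨(a : X) * a, a.2.2⟩) fun a b => Subtype.ext (by
      show (a : X) * b * ((a : X) * b) = (a : X) * a * ((b : X) * b)
      exact (show Commute (b : X) (a : X) from hTc b b.2.1 a a.2.1).mul_mul_mul_comm (a : X) b)
    have hfs : Function.Surjective f := by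
      rintro ⟨e, he⟩
      obtain ⟨y, hy, hyy⟩ := exists_sq hS hx₀ hx₀2 (hEZ he)
      exact ⟨⟨y, hy, hyy ▸ he⟩, Subtype.ext hyy⟩
    have hkZ : Nat.card f.ker = 2 ^ n := by
      rw [← card_zOf hS]
      exact Nat.card_congr
        { toFun := fun a => ⟨((a : A) : X), a.1.2.1.1, (congrArg Subtype.val a.2 :)⟩
          invFun := fun a => ⟨⟨a, hZA a.2⟩, Subtype.ext a.2.2⟩
          left_inv := fun _ => rfl
          right_inv := fun _ => rfl }
    have h1 := Subgroup.card_eq_card_quotient_mul_card_subgroup f.ker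
    rw [Nat.card_congr (QuotientGroup.quotientKerEquivOfSurjective f hfs).toEquiv, hkZ] at h1
    have hkE : Nat.card (π.subgroupMap A).ker = Nat.card E := by
      exact Nat.card_congr
        { toFun := fun a => ⟨((a : A) : X), hmemker.1 (congrArg Subtype.val a.2 :)⟩
          invFun := fun a => ⟨⟨a, hEA a.2⟩, Subtype.ext (hmemker.2 a.2)⟩
          left_inv := fun _ => rfl
          right_inv := fun _ => rfl }
    have h2 := Subgroup.card_eq_card_quotient_mul_card_subgroup (π.subgroupMap A).ker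
    rw [Nat.card_congr (QuotientGroup.quotientKerEquivOfSurjective _
      (π.subgroupMap_surjective A)).toEquiv, hkE, h1, mul_comm] at h2
    have h3 : Nat.card (A.map π) = 2 ^ n := (Nat.eq_of_mul_eq_mul_right Nat.card_pos h2).symm
    rw [h3]
    exact le_trans (by norm_num : (8 : ℕ) ≤ 2 ^ 3) (Nat.pow_le_pow_right two_pos hn)
  have hAn : ∀ s ∈ (U : Subgroup (X ⧸ E)), ∀ a ∈ A.map π, s * a * s⁻¹ ∈ A.map π := by
    rintro _ ⟨s, hs', rfl⟩ _ ⟨a, ha, rfl⟩
    refine ⟨s * a * s⁻¹ * a⁻¹ * a, mul_mem (hZA (comm_mem_zOf hS hs' ha.1.1)) ha, ?_⟩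
    rw [inv_mul_cancel_right, map_mul, map_mul, map_inv]
  have hcore : ∀ t : X ⧸ E, orderOf t = 2 → Cfsg.oddCore (centralizer ({t} : Set (X ⧸ E))) = ⊥ :=
    fun t ht => oddCore_centralizer hsp hOq U hAel hA8
      (Subgroup.map_mono fun a ha => ha.1.1) hAn hsolq ht
  -- an element of order four
  obtain ⟨z₀, hz₀, hz₀2⟩ := hz
  obtain ⟨x, hx, hxx⟩ := exists_sq hS hx₀ hx₀2 (hEZ hz₀)
  have hx2 : x * x ≠ 1 := hxx ▸ TwoFusionB.ne_one_of_inv hz₀2
  by_cases hZE : zOf hS ≤ E
  · -- `U` is elementary abelian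
    have hUel : ∀ a ∈ (U : Subgroup (X ⧸ E)), a * a = 1 := by
      rintro _ ⟨a, ha, rfl⟩
      rw [← map_mul, hmemker]
      exact hZE (sq_mem_zOf hS ha)
    have hUc : ∀ a ∈ (U : Subgroup (X ⧸ E)), ∀ b ∈ (U : Subgroup (X ⧸ E)), a * b = b * a := by
      intro a ha b hb
      calc a * b = (b * b) * (a * b) * (a * a) := by rw [hUel a ha, hUel b hb, one_mul, mul_one]
        _ = b * ((b * a) * (b * a)) * a := by group
        _ = b * a := by rw [hUel _ (mul_mem hb ha), mul_one]
    by_cases hne : normalizer ((U : Subgroup (X ⧸ E)) : Set (X ⧸ E)) = ⊤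
    · exact ⟨fun s hs' g => hNS g (hne ▸ mem_top _) s hs'⟩
    exfalso
    obtain ⟨hd, -, htype⟩ := data_at hsp hOq U (stronglyEmbedded_of_centralizers U
      (Z := (U : Subgroup (X ⧸ E))) le_rfl (fun a ha b hb => hUc b hb a ha)
      (z := π x) (mem_map_of_mem π hx.1)
      (orderOf_eq_two_of (fun e => hx2 (hEZ (hmemker.1 e)).2)
        (hUel _ (mem_map_of_mem π hx.1))) hne le_rfl fun t ht ho => by
        have hUC : (U : Subgroup (X ⧸ E)) ≤ centralizer ({t} : Set (X ⧸ E)) := fun a ha =>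
          mem_centralizer_singleton_iff.2 (hUc a ha t ht)
        have hn' := normal_of_abelian (hsolq t ho) (hcore t ho) (U.subtype hUC)
          fun a ha b hb => Subtype.ext (hUc _ ha _ hb)
        exact (Subgroup.normal_subgroupOf_iff_le_normalizer hUC).1 hn') le_normalizer
    have hnc : ¬ NonComm (U : Subgroup (X ⧸ E)) := fun ⟨a, ha, b, hb, hab⟩ => hab (hUc a ha b hb)
    rcases htype with ⟨-, F, _, _, m, hm, hF, ⟨e⟩⟩ | ⟨h1, -⟩ | ⟨h1, -⟩
    swap; · exact hnc h1
    swap; · exact hnc h1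
    set E' := Cfsg.pElementClosure 2 (⊤ : Subgroup (X ⧸ E))
    set K := E'.comap π with hK
    set σ := (π.comp K.subtype).codRestrict E' fun k => k.2 with hσ
    have hσs : Function.Surjective σ := fun y => by
      obtain ⟨k, hk⟩ := hs y
      exact ⟨⟨k, mem_comap.2 (hk ▸ y.2)⟩, Subtype.ext hk⟩
    have hσk : ∀ k : K, k ∈ σ.ker ↔ (k : X) ∈ E := fun k =>
      ⟨fun hk => hmemker.1 (congrArg Subtype.val hk :), fun hk => Subtype.ext (hmemker.2 hk)⟩
    have hdvd := card_ker_inf_commutator_dvd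
      (Schur.hasSchurMultiplier_congr e.symm (psl_multiplier hm hF)) σ hσs
      (fun k hk => mem_center_iff.2 fun l => Subtype.ext (mem_center_iff.1 ((hσk k).1 hk) (l : X)))
    have hSK : (S : Subgroup X) ≤ K := fun s hs' =>
      sylow_le_pElementClosure U (mem_map_of_mem π hs')
    -- all commutators `[s, x]` lie in the intersection
    have h2 := card_le_of_commutators hS hx.1 hx2
      (E := (σ.ker ⊓ commutator K).map K.subtype) fun s hs' => by
        refine ⟨⁅(⟨s, hSK hs'⟩ : K), ⟨x, hSK hx.1⟩⁆, ⟨(hσk _).2 ?_,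
          Subgroup.commutator_mem_commutator (mem_top _) (mem_top _)⟩, ?_⟩
        · exact hZE (by simpa [commutatorElement_def] using comm_mem_zOf hS hs' hx.1)
        · simp [commutatorElement_def]
    rw [Subgroup.card_map_of_injective K.subtype_injective] at h2
    have h3 := Nat.le_of_dvd (by split_ifs <;> norm_num) hdvd
    have h4 : 2 ^ 3 ≤ 2 ^ n := Nat.pow_le_pow_right two_pos hn
    split_ifs at h3 <;> omega
  -- the image of `Z`
  obtain ⟨z, hz', hzE⟩ : ∃ z ∈ zOf hS, z ∉ E := SetLike.not_le_iff_exists.1 hZE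
  set Z' := (zOf hS).map π with hZ'
  have hU' : ∀ g : X, π g ∈ normalizer ((U : Subgroup (X ⧸ E)) : Set (X ⧸ E)) →
      π g ∈ normalizer (Z' : Set (X ⧸ E)) := by
    intro g hg
    rw [mem_normalizer_iff_map_conj_eq]
    refine eq_of_le_of_card_ge ?_ (by
      exact (card_map_of_injective (MulAut.conj (π g)).injective).ge)
    rintro _ ⟨_, ⟨a, ha, rfl⟩, rfl⟩
    refine ⟨g * a * g⁻¹, ⟨hNS g hg a ha.1, ?_⟩, by simp⟩
    calc g * a * g⁻¹ * (g * a * g⁻¹) = g * (a * a) * g⁻¹ := by group
      _ = 1 := by rw [ha.2]; group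
  by_cases hne : normalizer (Z' : Set (X ⧸ E)) = ⊤
  · -- `Z` is normal
    haveI hZn : (zOf hS).Normal := by
      haveI := normalizer_eq_top_iff.1 hne
      have h1 : ((zOf hS).map π).comap π = zOf hS := by
        rw [Subgroup.comap_map_eq, hker, sup_eq_left.2 hEZ]
      exact h1 ▸ (inferInstance : Z'.Normal).comap π
    set C := centralizer (zOf hS : Set X) with hC
    haveI : C.Normal := by rw [hC]; infer_instance
    have hSC' : (S : Subgroup X) ≤ C := fun s hs' => mem_centralizer_iff.2 fun w hw =>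
      (zOf_comm hS hw hs').symm
    have hCn : Closed (S.subtype hSC') := by
      refine ih _ ?_ _ (hS.subtype hSC') ⟨⟨z, hSC' hz'.1⟩, mem_center_iff.2 fun a =>
        Subtype.ext (mem_centralizer_iff.1 a.2 z hz').symm, ?_⟩
      · have h1 := Subgroup.card_le_card_group C
        have h2 : Nat.card C ≠ Nat.card X := fun e => hzE (mem_center_iff.2 fun a =>
          (mem_centralizer_iff.1 ((Subgroup.eq_top_of_card_eq _ e).symm ▸ mem_top a : a ∈ C) z hz').symm)
        omega
      · rw [Subgroup.orderOf_mk]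
        exact orderOf_eq_two_of (fun e => hzE (e ▸ one_mem E)) hz'.2
    have hOC : Cfsg.oddCore C = ⊥ := by
      haveI := oddCore_normal (G := C)
      have h1 : ((Cfsg.oddCore C).map C.subtype).Normal := inferInstance
      have h2 : (Cfsg.oddCore C).map C.subtype ≤ Cfsg.oddCore X :=
        Thompson.le_pPrimeCore h1 (Nat.coprime_two_right.2 (by
          rw [card_map_of_injective C.subtype_injective]; exact oddCore_card_odd))
      exact (map_eq_bot_iff_of_injective _ C.subtype_injective).1 (le_bot_iff.1 (h2.trans hO.le))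
    refine ⟨fun s hs' g => ?_⟩
    have h1 : (S : Subgroup X).map (MulAut.conj g).toMonoidHom ≤ C := by
      rintro _ ⟨r, hr, rfl⟩
      exact (inferInstance : C.Normal).conj_mem r (hSC' hr) g
    have h2 := le_of_normal (S.subtype hSC') (normal_of_closed hCn hOC)
      ((S.isPGroup'.map (MulAut.conj g).toMonoidHom).of_equiv
        (Subgroup.subgroupOfEquivOfLe h1).symm)
    exact h2 (show (⟨_, h1 ⟨s, hs', rfl⟩⟩ : C) ∈
      ((S : Subgroup X).map (MulAut.conj g).toMonoidHom).subgroupOf C from ⟨s, hs', rfl⟩)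
  exfalso
  have hzne : π z ≠ 1 := fun e => hzE (hmemker.1 e)
  have hZU : Z' ≤ (U : Subgroup (X ⧸ E)) := Subgroup.map_mono fun a ha => ha.1
  obtain ⟨hd, -, -⟩ := data_at hsp hOq U (stronglyEmbedded_of_centralizers U (Z := Z') hZU
    (by
      rintro _ ⟨a, ha, rfl⟩ _ ⟨s, hs', rfl⟩
      rw [← map_mul, ← map_mul, zOf_comm hS ha hs'])
    (z := π z) (mem_map_of_mem π hz') (orderOf_eq_two_of hzne (by rw [← map_mul, hz'.2, map_one]))
    hne (fun g hg => by obtain ⟨g, rfl⟩ := hs g; exact hU' g hg)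
    (by
      rintro _ ⟨y, hy, rfl⟩ ho g hg
      obtain ⟨g, rfl⟩ := hs g
      have hcy := hcore (π y) ho
      have hOy := oddCore_centralizer_of_map π hs hkc hk2 y hcy
      have hgc : g ∈ (centralizer ({π y} : Set (X ⧸ E))).comap π := hg
      have hyE : y ∉ E := fun hc => TwoFusionB.ne_one_of_inv ho (hmemker.2 hc)
      -- `g` maps the 2-subgroup `P` of `C(y)` into the normal Sylow subgroup
      have hconj : ∀ P : Subgroup X, P ≤ centralizer ({y} : Set X) →
          P.map (MulAut.conj g).toMonoidHom ≤ centralizer ({y} : Set X) := by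
        rintro P hP _ ⟨a, ha, rfl⟩
        exact conj_mem_centralizer π hkc y hgc (hP ha)
      rw [mem_normalizer_iff_map_conj_eq]
      refine eq_of_le_of_card_ge ?_ (card_map_of_injective (MulAut.conj (π g)).injective).ge
      rintro _ ⟨_, ⟨a, ha, rfl⟩, rfl⟩
      refine ⟨g * a * g⁻¹, ⟨?_, by
        calc g * a * g⁻¹ * (g * a * g⁻¹) = g * (a * a) * g⁻¹ := by group
          _ = 1 := by rw [ha.2]; group⟩, by simp⟩
      by_cases hy2 : y * y = 1
      · have hyZ : y ∈ zOf hS := ⟨hy, hy2⟩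
        have hn' := normal_of_closed (hClosed y hyZ hyE (hSC y hyZ)) hOy
        have h1 := hconj (S : Subgroup X) (hSC y hyZ)
        exact le_of_normal _ hn' ((S.isPGroup'.map (MulAut.conj g).toMonoidHom).of_equiv
          (Subgroup.subgroupOfEquivOfLe h1).symm)
          (show (⟨_, h1 ⟨a, ha.1, rfl⟩⟩ : centralizer ({y} : Set X)) ∈
            ((S : Subgroup X).map (MulAut.conj g).toMonoidHom).subgroupOf _ from ⟨a, ha.1, rfl⟩)
      · obtain ⟨T, hT⟩ := exists_sylow_centralizer hS hy hy2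
        have hn' := normal_of_abelian (isSolvable_centralizer_four hS hsp hinv hy hy2) hOy T
          fun a' ha' b' hb' => Subtype.ext (inf_centralizer_comm hS hy hy2 _
            (hT ▸ mem_map_of_mem (centralizer ({y} : Set X)).subtype ha') _
            (hT ▸ mem_map_of_mem (centralizer ({y} : Set X)).subtype hb'))
        have hTle : (S : Subgroup X) ⊓ centralizer ({y} : Set X) ≤ centralizer ({y} : Set X) :=
          inf_le_right
        have h1 := hconj _ hTle
        have h2 := le_of_normal _ hn' (((S.isPGroup'.to_le inf_le_left).map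
          (MulAut.conj g).toMonoidHom).of_equiv (Subgroup.subgroupOfEquivOfLe h1).symm)
          (show (⟨_, h1 ⟨a, zOf_le_centralizer hS hy ha, rfl⟩⟩ : centralizer ({y} : Set X)) ∈
            ((((S : Subgroup X) ⊓ centralizer ({y} : Set X))).map
              (MulAut.conj g).toMonoidHom).subgroupOf _ from ⟨a, zOf_le_centralizer hS hy ha, rfl⟩)
        have h3 := hT ▸ mem_map_of_mem (centralizer ({y} : Set X)).subtype h2
        exact h3.1)) (fun g hg => by
          obtain ⟨g, hg', rfl⟩ := hg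
          exact hU' g (le_normalizer (mem_map_of_mem π hg')))
  -- `π x` would be central in `U`
  have hcen := hd.central (π x) (mem_map_of_mem π hx.1) (by
    rw [← map_mul, hmemker, hxx]; exact hz₀)
  have h2 := card_le_of_commutators hS hx.1 hx2 (E := E) fun s hs' => by
    rw [← hmemker, map_mul, map_mul, map_mul, map_inv, map_inv, hcen _ (mem_map_of_mem π hs'),
      mul_inv_cancel_right, mul_inv_cancel]
  have h3 : Nat.card E < Nat.card (zOf hS) := by
    refine lt_of_le_of_ne (Subgroup.card_le_of_le hEZ) fun e => hzE ?_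
    rw [eq_of_le_of_card_ge hEZ e.ge]
    exact hz'
  rw [card_zOf hS] at h3
  omega

/-- A group with Sylow 2-subgroup of unitary shape and a central involution is 2-closed modulo
its odd core. -/
theorem closed_of_central (hsp : BenderSplit.{u}) (hn : 3 ≤ n) (S : Sylow 2 G)
    (hS : UShape n (S : Subgroup G)) (hz : ∃ z ∈ center G, orderOf z = 2) : Closed S :=
  closed_aux hsp hn _ G le_rfl S hS hz

end Cfsg.Agent.U3Sylow69
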