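import Cfsg.Agent.U3Sylow69.Shape
import Cfsg.Agent.Lib.SuzukiTwo.Unitary

/-!
A Sylow 2-subgroup of `PSU₃(2^n)` has the shape `UShape`.
-/

set_option autoImplicit false
set_option linter.style.haveILetI false

namespace Cfsg.Agent.U3Sylow69

open Matrix Cfsg.Agent.Unitary Cfsg.Agent.AutPSU Cfsg.Agent.SuzukiTwo

variable {q : ℕ} {F : Type*} [Field F] [Fintype F] [CharP F 2] (hF : Fintype.card F = q ^ 2)

omit [CharP F 2] in
include hF in
/-- The radical of `PSU₃(q)` in coordinates. -/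
theorem exists_coord {S : Finset (Fin 3)} {e f : Fin 3 → F} (h : HPair q e f) (hS : Frame q S e f)
    (hS2 : S.card = 2) :
    ∃ E : ((x : F) × {b : F // b + b ^ q = -(x ^ (q + 1))}) ≃ Ugrp hF h,
      ∀ t t' : (x : F) × {b : F // b + b ^ q = -(x ^ (q + 1))}, ∀ hb,
        E t * E t' = E ⟨t.1 + t'.1, t.2.1 + t'.2.1 - t'.1 * t.1 ^ q, hb⟩ := by
  classical
  obtain ⟨k, hk⟩ : ∃ k, Sᶜ = {k} := Finset.card_eq_one.1 (by rw [Finset.card_compl, hS2]; simp)
  have hkS : k ∉ S := by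
    have : k ∈ Sᶜ := by rw [hk]; simp
    simpa using this
  have horth : ∀ x : F, Orth2 q e f (x • eI k) := fun x =>
    (hS _).2 ((supp S).smul_mem x (eI_mem_supp hkS))
  have hherm : ∀ x y : F, herm q (x • (eI k : Fin 3 → F)) (y • eI k) = x * y ^ q := fun x y => by
    rw [herm_smul_left, herm_smul_right hF, herm_eI_eI hF, if_pos rfl, mul_one]
  have hself : ∀ x : F, herm q (x • (eI k : Fin 3 → F)) (x • eI k) = x ^ (q + 1) := fun x => by
    rw [hherm, ← pow_succ']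
  have hrep : ∀ w, Orth2 q e f w → w = w k • eI k := by
    intro w hw
    funext i
    by_cases hi : i = k
    · subst hi; simp [eI]
    · have hiS : i ∈ S := by
        by_contra hh
        have : i ∈ Sᶜ := Finset.mem_compl.2 hh
        rw [hk, Finset.mem_singleton] at this
        exact hi this
      rw [(hS w).1 hw i hiS]
      simp [eI, hi]
  let T := (x : F) × {b : F // b + b ^ q = -(x ^ (q + 1))}
  let φ : T → Ugrp hF h := fun t =>
    ⟨piU 3 F q (Qel hF h.ee (horth t.1).1 (b := t.2.1) (by rw [hself]; exact t.2.2)),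
      t.1 • eI k, horth t.1, t.2.1, _, rfl⟩
  have hφ : Function.Bijective φ := by
    constructor
    · rintro ⟨x, b⟩ ⟨x', b'⟩ he
      have h1 := piU_Qel_eq hF (by norm_num) h.e_ne (congrArg Subtype.val he)
      obtain ⟨hw, hb⟩ := Qel_inj hF h (horth x) (horth x') h1
      have hx : x = x' := by simpa [eI] using congrFun hw k
      subst hx
      exact Sigma.ext rfl (heq_of_eq (Subtype.ext hb))
    · rintro ⟨y, w, hw, b, hb, rfl⟩
      refine ⟨⟨w k, b, ?_⟩, Subtype.ext (congrArg (piU 3 F q) (Qel_congr hF h.ee _ _ _ _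
        (hrep w hw).symm rfl))⟩
      rw [hb, hrep w hw, hself]
      simp [eI]
  refine ⟨Equiv.ofBijective φ hφ, fun t t' hb => Subtype.ext ?_⟩
  show piU 3 F q _ * piU 3 F q _ = piU 3 F q _
  rw [← map_mul, Qel_mul_Qel hF h.ee (horth t.1).1 _ (horth t'.1).1 _ (Qel_add_cond hF
    (by rw [hself]; exact t.2.2) (by rw [hself]; exact t'.2.2))]
  refine congrArg _ (Qel_congr hF h.ee _ _ _ _ (add_smul _ _ _).symm ?_)
  rw [hherm]

include hF in
/-- The radical has the shape. -/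
theorem ushape_ugrp {n : ℕ} (hq : q = 2 ^ n) {S : Finset (Fin 3)} {e f : Fin 3 → F}
    (h : HPair q e f) (hS : Frame q S e f) (hS2 : S.card = 2) : UShape n (Ugrp hF h) := by
  classical
  obtain ⟨E, hE⟩ := exists_coord hF h hS hS2
  have h2 : ∀ t : F, t + t = 0 := CharTwo.add_self_eq_zero
  have hneg : ∀ t : F, -t = t := CharTwo.neg_eq
  let T := (x : F) × {b : F // b + b ^ q = -(x ^ (q + 1))}
  have hcond : ∀ t t' : T, (t.2.1 + t'.2.1 - t'.1 * t.1 ^ q) +
      (t.2.1 + t'.2.1 - t'.1 * t.1 ^ q) ^ q = -((t.1 + t'.1) ^ (q + 1)) := by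
    intro t t'
    have h1 := t.2.2
    have h1' := t'.2.2
    simp only [pow_succ, sub_pow_q hF, add_pow_q hF, mul_pow, pow_q_pow_q hF] at h1 h1' ⊢
    linear_combination h1 + h1'
  -- equality in coordinates
  have hext : ∀ t t' : T, t.1 = t'.1 → t.2.1 = t'.2.1 → t = t' := by
    rintro ⟨x, b⟩ ⟨x', b'⟩ (rfl : x = x') hb
    exact Sigma.ext rfl (heq_of_eq (Subtype.ext hb))
  let t0 : T := ⟨0, 0, by rw [zero_pow_q hF, zero_pow (Nat.succ_ne_zero q)]; simp⟩
  have hone : E t0 = 1 := by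
    have h1 := hE t0 t0 (hcond _ _)
    rw [show (⟨t0.1 + t0.1, _, hcond t0 t0⟩ : T) = t0 from hext _ _ (by simp [t0]) (by simp [t0])] at h1
    exact mul_eq_left.1 h1
  have heq1 : ∀ t : T, E t = 1 ↔ t.1 = 0 ∧ t.2.1 = 0 := by
    intro t
    rw [← hone, E.injective.eq_iff]
    exact ⟨fun e => e ▸ ⟨rfl, rfl⟩, fun e => hext _ _ e.1 e.2⟩
  have hmulinj : ∀ t t' u u' : T, E t * E t' = E u * E u' ↔
      t.1 + t'.1 = u.1 + u'.1 ∧
        t.2.1 + t'.2.1 - t'.1 * t.1 ^ q = u.2.1 + u'.2.1 - u'.1 * u.1 ^ q := by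
    intro t t' u u'
    rw [hE t t' (hcond t t'), hE u u' (hcond u u'), E.injective.eq_iff]
    exact ⟨fun e => ⟨congrArg Sigma.fst e, congrArg (fun v : T => v.2.1) e⟩, fun e => hext _ _ e.1 e.2⟩
  have hcomm : ∀ t t' : T, E t * E t' = E t' * E t ↔ t'.1 * t.1 ^ q = t.1 * t'.1 ^ q := by
    intro t t'
    rw [hmulinj]
    exact ⟨fun e => by linear_combination -e.2, fun e => ⟨add_comm _ _, by linear_combination -e⟩⟩
  have hsq : ∀ t : T, E t * E t = 1 ↔ t.1 = 0 := by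
    intro t
    rw [hE t t (hcond t t), heq1]
    refine ⟨fun e => ?_, fun e => ⟨h2 _, ?_⟩⟩
    · have e2 : t.2.1 + t.2.1 - t.1 * t.1 ^ q = 0 := e.2
      rw [h2, zero_sub, neg_eq_zero, ← pow_succ', pow_eq_zero_iff (Nat.succ_ne_zero q)] at e2
      exact e2
    · show t.2.1 + t.2.1 - t.1 * t.1 ^ q = 0
      rw [h2, e, zero_mul, sub_zero]
  have hfib : ∀ x : F, Nat.card {b : F // b + b ^ q = -(x ^ (q + 1))} = q := by
    intro x
    obtain ⟨b0, hb0⟩ := exists_trace_eq hF (t := -(x ^ (q + 1)))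
      (by rw [neg_pow_q hF, norm_fixed hF])
    conv_rhs => rw [← card_trace_ker hF]
    refine Nat.card_congr (Equiv.subtypeEquiv (Equiv.subRight b0) fun b => ?_)
    show _ ↔ (b - b0) + (b - b0) ^ q = 0
    rw [sub_pow_q hF]
    constructor
    · intro hh; linear_combination hh - hb0
    · intro hh; linear_combination hh + hb0
  have hsub : ∀ p : F → Prop, Nat.card {t : T // p t.1} = Nat.card {x : F // p x} * q := by
    intro p
    haveI : DecidablePred p := Classical.decPred _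
    rw [Nat.card_congr (show {t : T // p t.1} ≃
      ((x : {x : F // p x}) × {b : F // b + b ^ q = -((x : F) ^ (q + 1))}) from
      { toFun := fun t => ⟨⟨t.1.1, t.2⟩, t.1.2⟩
        invFun := fun u => ⟨⟨u.1.1, u.2⟩, u.1.2⟩
        left_inv := fun _ => rfl
        right_inv := fun _ => rfl }), Nat.card_sigma, Finset.sum_congr rfl fun x _ => hfib x.1,
      Finset.sum_const, Finset.card_univ, smul_eq_mul, Nat.card_eq_fintype_card]
  have hsurj : ∀ z, ∃ t : T, E t = z := E.surjective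
  refine ⟨?_, ?_, ?_, ?_, ?_, ?_⟩
  · rw [card_Ugrp hF h hS hS2, hq, ← pow_mul, mul_comm]
  · intro z hz s
    obtain ⟨t, rfl⟩ := hsurj z
    obtain ⟨t', rfl⟩ := hsurj s
    rw [hcomm, (hsq t).1 hz, zero_pow_q hF, zero_mul, mul_zero]
  · intro x
    obtain ⟨t, rfl⟩ := hsurj x
    rw [hE t t (hcond t t), hsq]
    exact h2 _
  · rw [← Nat.card_congr (E.subtypeEquiv (p := fun t : T => t.1 = 0)
      (q := fun z => z * z = 1) fun t => (hsq t).symm), hsub (fun x => x = 0),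
      Nat.card_eq_fintype_card,
      Fintype.card_subtype_eq, one_mul, hq]
  · intro x hx a b ha hb
    obtain ⟨t, rfl⟩ := hsurj x
    obtain ⟨u, rfl⟩ := hsurj a
    obtain ⟨v, rfl⟩ := hsurj b
    rw [hcomm] at ha hb ⊢
    have ht : t.1 ≠ 0 := fun e => hx ((hsq t).2 e)
    refine mul_right_cancel₀ (mul_ne_zero ht (pow_ne_zero q ht)) ?_
    linear_combination (v.1 * t.1 ^ q) * ha - (u.1 * t.1 ^ q) * hb
  · intro x hx
    obtain ⟨t, rfl⟩ := hsurj x
    have ht : t.1 ≠ 0 := fun e => hx ((hsq t).2 e)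
    rw [← Nat.card_congr (E.subtypeEquiv (p := fun u : T => t.1 * u.1 ^ q = u.1 * t.1 ^ q)
      (q := fun a => a * E t = E t * a) fun u => (hcomm u t).symm),
      hsub (fun x => t.1 * x ^ q = x * t.1 ^ q)]
    rw [Nat.card_congr ((Equiv.mulRight₀ (t.1 ^ q) (pow_ne_zero q ht)).subtypeEquiv
      (p := fun x : F => t.1 * x ^ q = x * t.1 ^ q) (q := fun c => c + c ^ q = 0) fun x => ?_),
      card_trace_ker hF, hq, ← pow_add, two_mul]
    show _ ↔ x * t.1 ^ q + (x * t.1 ^ q) ^ q = 0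
    rw [CharTwo.add_eq_zero, mul_pow, pow_q_pow_q hF, mul_comm (x ^ q), eq_comm]

/-- A Sylow 2-subgroup of `PSU₃(2^n)` has the shape. -/
theorem ushape_sylow {n : ℕ} {F : Type*} [Field F] [Fintype F] (hn : 2 ≤ n)
    (hF : Fintype.card F = (2 ^ n) ^ 2) (S : Sylow 2 (Cfsg.PSU 3 F (2 ^ n))) :
    UShape n (S : Subgroup (Cfsg.PSU 3 F (2 ^ n))) := by
  classical
  haveI : CharP F 2 := charP_of_card_eq_prime_pow (f := n * 2) (by rw [hF, ← pow_mul])
  haveI : Fact (Nat.Prime 2) := ⟨Nat.prime_two⟩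
  obtain ⟨T, e, f, h, hT, hT2⟩ := exists_frame hF (le_refl 3)
  obtain ⟨P, hP⟩ := (isPGroup_Ugrp hF 2 h).exists_le_sylow
  have hU := card_Ugrp hF h hT hT2
  have hPcard : Nat.card P = (2 ^ n) ^ 3 := by
    rw [← (SuzukiTwo.psu_sylow hF hn rfl P).1]
  have heq : Ugrp hF h = (P : Subgroup (Cfsg.PSU 3 F (2 ^ n))) :=
    Subgroup.eq_of_le_of_card_ge hP (by rw [hU, hPcard])
  exact ((ushape_ugrp hF rfl h hT hT2).congr (MulEquiv.subgroupCongr heq)).congr (P.equiv S)

end Cfsg.Agent.U3Sylow69
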