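import Cfsg.Agent.U3Sylow69.Central
import Cfsg.Agent.U3Sylow69.Model
import Cfsg.Agent.Lib.UnitaryOrthogonal.KleinPSU
import Cfsg.Agent.S1141

/-!
The statement of S3177 from `BenderSplit`.
-/

set_option autoImplicit false
set_option linter.style.haveILetI false
set_option linter.unusedSectionVars false

namespace Cfsg.Agent.U3Sylow69

open Subgroup BenderCons37 CISylow69

universe u v

variable {G : Type u} [Group G] [Finite G] {n : ℕ}

theorem zOf_conj_mem {S : Sylow 2 G} (h : UShape n (S : Subgroup G)) {g a : G}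
    (hg : ∀ s ∈ (S : Subgroup G), g * s * g⁻¹ ∈ (S : Subgroup G)) (ha : a ∈ zOf h) :
    g * a * g⁻¹ ∈ zOf h := by
  refine ⟨hg a ha.1, ?_⟩
  calc g * a * g⁻¹ * (g * a * g⁻¹) = g * (a * a) * g⁻¹ := by group
    _ = 1 := by rw [ha.2]; group

/-- The group with trivial odd core. -/
theorem normal_or_unitary (hsp : BenderSplit.{u}) (hn : 3 ≤ n) (hO : Cfsg.oddCore G = ⊥)
    (S : Sylow 2 G) (h : UShape n (S : Subgroup G)) :
    (S : Subgroup G).Normal ∨ ∃ (N : Subgroup G), N.Normal ∧ Odd N.index ∧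
      ∃ (F : Type) (_ : Field F) (_ : Fintype F),
        Fintype.card F = (2 ^ n) ^ 2 ∧ Nonempty (N ≃* Cfsg.PSU 3 F (2 ^ n)) := by
  haveI : Fact (Nat.Prime 2) := ⟨Nat.prime_two⟩
  by_cases hz : ∃ z ∈ center G, orderOf z = 2
  · exact Or.inl (normal_of_closed (closed_of_central hsp hn S h hz) hO)
  push Not at hz
  have h8 : 8 ≤ Nat.card (zOf h) := by
    rw [card_zOf h]
    exact le_trans (by norm_num : (8 : ℕ) ≤ 2 ^ 3) (Nat.pow_le_pow_right two_pos hn)
  have hSC : ∀ z ∈ zOf h, (S : Subgroup G) ≤ centralizer ({z} : Set G) := fun z hz' s hs =>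
    mem_centralizer_singleton_iff.2 (zOf_comm h hz' hs)
  have hClosed : ∀ z, ∀ hz' : z ∈ zOf h, orderOf z = 2 → Closed (S.subtype (hSC z hz')) := by
    intro z hz' hz2
    exact closed_of_central hsp hn _ (h.subtype (hSC z hz'))
      ⟨⟨z, mem_centralizer_singleton_iff.2 rfl⟩, mem_center_iff.2 fun a =>
        Subtype.ext (mem_centralizer_singleton_iff.1 a.2), by rw [Subgroup.orderOf_mk]; exact hz2⟩
  have hsol : ∀ t : G, orderOf t = 2 → Group.IsSolvable (centralizer ({t} : Set G)) := by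
    intro t ht
    obtain ⟨g, hg⟩ := exists_conj_mem S (isPGroup_zpowers_of_sq (TwoFusionB.sq_eq_one_of_inv ht))
    have ho := (TwoFusionB.orderOf_conj_eq g t).trans ht
    have hw : g * t * g⁻¹ ∈ zOf h := ⟨hg t (mem_zpowers t), TwoFusionB.sq_eq_one_of_inv ho⟩
    have h3 := isSolvable_centralizer_conj g⁻¹ (isSolvable_of_closed (hClosed _ hw ho))
    rwa [show g⁻¹ * (g * t * g⁻¹) * g⁻¹⁻¹ = t by group] at h3
  have hel : Cfsg.IsElementaryAbelian 2 (zOf h) :=
    ⟨⟨⟨fun a b => Subtype.ext (zOf_comm h b.2 a.2.1)⟩⟩, fun x hx => by rw [pow_two]; exact hx.2⟩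
  have hcore : ∀ t : G, orderOf t = 2 → Cfsg.oddCore (centralizer ({t} : Set G)) = ⊥ := fun t ht =>
    oddCore_centralizer hsp hO S hel h8 (fun x hx => hx.1)
      (fun s hs x hx => by rw [zOf_comm h hx hs, mul_inv_cancel_right]; exact hx) hsol ht
  have hNle : normalizer ((S : Subgroup G) : Set G) ≤ normalizer (zOf h : Set G) := by
    intro g hg
    rw [mem_normalizer_iff_map_conj_eq]
    refine eq_of_le_of_card_ge ?_ (card_map_of_injective (MulAut.conj g).injective).ge
    rintro _ ⟨a, ha, rfl⟩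
    exact zOf_conj_mem h (fun s hs => (mem_normalizer_iff.1 hg s).1 hs) ha
  obtain ⟨z, hzZ, hz2⟩ : ∃ z ∈ zOf h, orderOf z = 2 := by
    haveI : Nontrivial (zOf h) := Finite.one_lt_card_iff_nontrivial.1 (by omega)
    obtain ⟨z, hz'⟩ := exists_ne (1 : zOf h)
    exact ⟨z, z.2, orderOf_eq_two_of (fun e => hz' (Subtype.ext e)) z.2.2⟩
  by_cases hne : normalizer (zOf h : Set G) = ⊤
  · left
    haveI := normalizer_eq_top_iff.1 hne
    set C := centralizer (zOf h : Set G) with hC
    haveI : C.Normal := by rw [hC]; infer_instance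
    have hSC' : (S : Subgroup G) ≤ C := fun s hs => mem_centralizer_iff.2 fun w hw =>
      (zOf_comm h hw hs).symm
    have hCn : Closed (S.subtype hSC') := closed_of_central hsp hn _ (h.subtype hSC')
      ⟨⟨z, hSC' hzZ.1⟩, mem_center_iff.2 fun a =>
        Subtype.ext (mem_centralizer_iff.1 a.2 z hzZ).symm, by rw [Subgroup.orderOf_mk]; exact hz2⟩
    have hOC : Cfsg.oddCore C = ⊥ := by
      haveI := oddCore_normal (G := C)
      have h1 : ((Cfsg.oddCore C).map C.subtype).Normal := inferInstance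
      have h2 : (Cfsg.oddCore C).map C.subtype ≤ Cfsg.oddCore G :=
        Thompson.le_pPrimeCore h1 (Nat.coprime_two_right.2 (by
          rw [card_map_of_injective C.subtype_injective]; exact oddCore_card_odd))
      exact (map_eq_bot_iff_of_injective _ C.subtype_injective).1 (le_bot_iff.1 (h2.trans hO.le))
    refine ⟨fun s hs g => ?_⟩
    have h1 : (S : Subgroup G).map (MulAut.conj g).toMonoidHom ≤ C := by
      rintro _ ⟨r, hr, rfl⟩
      exact (inferInstance : C.Normal).conj_mem r (hSC' hr) g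
    exact le_of_normal (S.subtype hSC') (normal_of_closed hCn hOC)
      ((S.isPGroup'.map (MulAut.conj g).toMonoidHom).of_equiv
        (Subgroup.subgroupOfEquivOfLe h1).symm)
      (show (⟨_, h1 ⟨s, hs, rfl⟩⟩ : C) ∈
        ((S : Subgroup G).map (MulAut.conj g).toMonoidHom).subgroupOf C from ⟨s, hs, rfl⟩)
  right
  have hse := stronglyEmbedded_of_centralizers S (Z := zOf h) (fun x hx => hx.1)
    (fun a ha s hs => zOf_comm h ha hs) hzZ hz2 hne hNle fun t ht ho => by
      have htZ : t ∈ zOf h := ⟨ht, TwoFusionB.sq_eq_one_of_inv ho⟩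
      have hn' := normal_of_closed (hClosed t htZ ho) (hcore t ho)
      exact ((Subgroup.normal_subgroupOf_iff_le_normalizer (hSC t htZ)).1 hn').trans hNle
  obtain ⟨-, -, htype⟩ := data_at hsp hO S hse (le_normalizer.trans hNle)
  set E := Cfsg.pElementClosure 2 (⊤ : Subgroup G) with hE
  have hSE : (S : Subgroup G) ≤ E := sylow_le_pElementClosure S
  have hnc : NonComm (S : Subgroup G) := by
    obtain ⟨x, hx, hx2⟩ := exists_sq_ne_one h (by omega)
    by_contra hh
    have hle : (S : Subgroup G) ≤ (S : Subgroup G) ⊓ centralizer ({x} : Set G) := fun s hs =>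
      ⟨hs, mem_centralizer_singleton_iff.2 (by
        by_contra hne'
        exact hh ⟨s, hs, x, hx, hne'⟩)⟩
    have h1 := Subgroup.card_le_of_le hle
    rw [card_inf_centralizer h hx hx2, h.card] at h1
    exact absurd h1 (not_le.2 (Nat.pow_lt_pow_right (by norm_num) (by omega)))
  rcases htype with ⟨h1, -⟩ | ⟨-, F, _, _, m, hm, hF, hSc, hq, -⟩ | ⟨-, F, _, _, k, hk, hF, ⟨e⟩⟩
  · exact absurd hnc h1
  · exfalso
    have hq' : Suz27.qOf (S : Subgroup G) = 2 ^ n :=
      (Nat.card_congr (Equiv.refl _)).trans (card_zOf h)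
    rw [hq] at hq'
    rw [h.card, hq', ← pow_mul] at hSc
    have := Nat.pow_right_injective le_rfl hSc
    omega
  · set S' := (S.subtype hSE).mapSurjective (f := e.toMonoidHom) e.surjective with hS'
    have hcard : Nat.card S' = Nat.card (S : Subgroup G) :=
      (Subgroup.card_map_of_injective (f := e.toMonoidHom) e.injective).trans
        (Nat.card_congr (Subgroup.subgroupOfEquivOfLe hSE).toEquiv)
    rw [(S1141.result hk hF S').1, h.card, ← pow_mul] at hcard
    have hkn : k = n := by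
      have := Nat.pow_right_injective le_rfl hcard
      omega
    subst hkn
    refine ⟨E, pElementClosure_normal G, ?_, F, inferInstance, inferInstance, hF, ⟨e⟩⟩
    rw [← Nat.not_even_iff_odd, even_iff_two_dvd]
    exact fun hd => S.not_dvd_index (hd.trans (Subgroup.index_dvd_of_le hSE))

/-- 2-closed modulo the odd core gives 2-length one. -/
theorem pLengthLE_of_closed (S : Sylow 2 G) (h : Closed S) : Cfsg.PLengthLE 2 1 G := by
  haveI : Fact (Nat.Prime 2) := ⟨Nat.prime_two⟩
  haveI hn1 : (Cfsg.upperPSeries 2 G 1).1.Normal := (Cfsg.upperPSeries 2 G 1).2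
  haveI hn2 : (Cfsg.upperPSeries 2 G 2).1.Normal := (Cfsg.upperPSeries 2 G 2).2
  haveI hn0 : (Cfsg.upperPSeries 2 G 0).1.Normal := (Cfsg.upperPSeries 2 G 0).2
  haveI := oddCore_normal (G := G)
  set U₁ := (Cfsg.upperPSeries 2 G 1).1 with hU₁
  set U₂ := (Cfsg.upperPSeries 2 G 2).1 with hU₂
  have hO : Cfsg.oddCore G ≤ U₁ := by
    intro x hx
    show x ∈ (Cfsg.pPrimeCore 2 (G ⧸ (Cfsg.upperPSeries 2 G 0).1)).comap (QuotientGroup.mk' _)
    refine Thompson.le_pPrimeCore (N := (Cfsg.oddCore G).map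
      (QuotientGroup.mk' (Cfsg.upperPSeries 2 G 0).1))
      ((oddCore_normal).map _ (QuotientGroup.mk'_surjective _)) (Nat.coprime_two_right.2 ?_)
      (mem_map_of_mem _ hx)
    exact oddCore_card_odd.of_dvd_nat (Subgroup.card_map_dvd _ _)
  have hS2 : (S : Subgroup G) ≤ U₂ := by
    intro s hs
    show s ∈ (Cfsg.pCore 2 (G ⧸ U₁)).comap (QuotientGroup.mk' U₁)
    have hn := (h.comap (QuotientGroup.mk' (Cfsg.oddCore G))).map (QuotientGroup.mk' U₁)
      (QuotientGroup.mk'_surjective _)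
    rw [Subgroup.comap_map_eq, QuotientGroup.ker_mk', Subgroup.map_sup,
      show (Cfsg.oddCore G).map (QuotientGroup.mk' U₁) = ⊥ from
        (Subgroup.map_eq_bot_iff _).2 (by rw [QuotientGroup.ker_mk']; exact hO), sup_bot_eq] at hn
    exact Thompson.le_pCore (p := 2) hn (S.isPGroup'.map _) (mem_map_of_mem _ hs)
  show (Cfsg.pPrimeCore 2 (G ⧸ U₂)).comap (QuotientGroup.mk' U₂) = ⊤
  rw [eq_top_iff]
  intro x _
  refine Thompson.le_pPrimeCore (N := (⊤ : Subgroup (G ⧸ U₂))) inferInstance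
    (Nat.coprime_two_right.2 ?_) (mem_top _)
  rw [Subgroup.card_top, ← Subgroup.index_eq_card, ← Nat.not_even_iff_odd, even_iff_two_dvd]
  exact fun hd => S.not_dvd_index (hd.trans (Subgroup.index_dvd_of_le hS2))

/-- The statement of S3177 from `BenderSplit`. -/
theorem s3177_of (hsp : BenderSplit.{u}) (n : ℕ) (hn : 3 ≤ n) {F : Type v} [Field F] [Fintype F]
    (hF : Fintype.card F = 4 ^ n) (S : Sylow 2 G) (P : Sylow 2 (Cfsg.PSU 3 F (2 ^ n)))
    (hS : Nonempty (↥(S : Subgroup G) ≃* ↥(P : Subgroup (Cfsg.PSU 3 F (2 ^ n))))) :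
    (Group.IsSolvable G ∧ Cfsg.PLengthLE 2 1 G) ∨
      ∃ N : Subgroup (G ⧸ Cfsg.oddCore G), N.Normal ∧ Odd N.index ∧
        Nonempty (↥N ≃* Cfsg.PSU 3 F (2 ^ n)) := by
  classical
  obtain ⟨e⟩ := hS
  have hF' : Fintype.card F = (2 ^ n) ^ 2 := by
    rw [hF, show (4 : ℕ) = 2 ^ 2 by norm_num, ← pow_mul, ← pow_mul, mul_comm]
  have hU : UShape n (S : Subgroup G) := (ushape_sylow (by omega) hF' P).congr e.symm
  haveI := oddCore_normal (G := G)
  have hs : Function.Surjective (QuotientGroup.mk' (Cfsg.oddCore G)) :=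
    QuotientGroup.mk'_surjective _
  rcases normal_or_unitary hsp hn oddCore_quotient (S.mapSurjective hs)
    (hU.map _ (by rw [QuotientGroup.ker_mk']; exact oddCore_card_odd)) with h |
    ⟨N, hN, hi, K, _, _, hK, ⟨f⟩⟩
  · exact Or.inl ⟨isSolvable_of_closed (S := S) h, pLengthLE_of_closed S h⟩
  · exact Or.inr ⟨N, hN, hi, ⟨f.trans (UnitaryOrthogonal.psuCongr
      (FiniteField.ringEquivOfCardEq (hK.trans hF'.symm)))⟩⟩

end Cfsg.Agent.U3Sylow69
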