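import Mathlib

/-!
The properties of a Sylow 2-subgroup of `PSU₃(2^n)` that the proof of S3177 uses.
-/

set_option autoImplicit false

namespace Cfsg.Agent.U3Sylow69

/-- The shape of a Sylow 2-subgroup of `PSU₃(2^n)`. -/
structure UShape (n : ℕ) (P : Type*) [Group P] : Prop where
  card : Nat.card P = 2 ^ (3 * n)
  central : ∀ z : P, z * z = 1 → ∀ s : P, s * z = z * s
  sq : ∀ x : P, (x * x) * (x * x) = 1
  cardInv : Nat.card {z : P // z * z = 1} = 2 ^ n
  comm : ∀ x : P, x * x ≠ 1 → ∀ a b : P, a * x = x * a → b * x = x * b → a * b = b * a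
  cardCent : ∀ x : P, x * x ≠ 1 → Nat.card {a : P // a * x = x * a} = 2 ^ (2 * n)

theorem UShape.congr {n : ℕ} {P Q : Type*} [Group P] [Group Q] (e : P ≃* Q) (h : UShape n P) :
    UShape n Q := by
  have hsq : ∀ y : Q, e.symm y * e.symm y = 1 ↔ y * y = 1 := fun y => by
    rw [← map_mul, ← map_one e.symm, e.symm.injective.eq_iff]
  have hc : ∀ y z : Q, e.symm y * e.symm z = e.symm z * e.symm y ↔ y * z = z * y := fun y z => by
    rw [← map_mul, ← map_mul, e.symm.injective.eq_iff]
  refine ⟨?_, fun z hz s => (hc s z).1 (h.central _ ((hsq z).2 hz) _), fun x => ?_, ?_,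
    fun x hx a b ha hb => (hc a b).1 (h.comm _ (fun e1 => hx ((hsq x).1 e1)) _ _ ((hc a x).2 ha)
      ((hc b x).2 hb)), fun x hx => ?_⟩
  · rw [← Nat.card_congr e.toEquiv, h.card]
  · apply e.symm.injective
    rw [map_mul, map_mul, map_one, h.sq]
  · rw [← h.cardInv]
    exact Nat.card_congr (e.symm.toEquiv.subtypeEquiv fun y => (hsq y).symm)
  · rw [← h.cardCent (e.symm x) fun e1 => hx ((hsq x).1 e1)]
    exact Nat.card_congr (e.symm.toEquiv.subtypeEquiv fun y => (hc y x).symm)

end Cfsg.Agent.U3Sylow69
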